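import Cfsg.Agent.Lib.Spor.Fi24.QuadCent.Defs

/-!
The two orbits used for the transitivity on quads.
-/

set_option autoImplicit false
set_option maxRecDepth 100000
set_option Elab.async false

namespace CfsgLib.Spor.Fi24.QuadCent

open CfsgLib.BitPerm CfsgLib.PresCert
open CfsgLib.Spor.Fi24 (sys)
open CfsgLib.Spor.Fi24Sym (fixesAll inSet incr)

theorem orbA_fix : fixesAll orbAWords [0, 1] = true := by decide +kernel

theorem orbC_fix : fixesAll orbCWords [0, 1, 5] = true := by decide +kernel

theorem orbA_grow : Nat.beq (sys.growW stepsA (Nat.shiftLeft 1 5)) setA = true := by decide +kernel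

theorem orbC_grow : Nat.beq (sys.growW stepsC (Nat.shiftLeft 1 266)) setC = true := by decide +kernel

theorem orbA_list : orbAList.length = 3510 ∧ incr 0 orbAList = true ∧ inSet setA orbAList = true := by
  decide +kernel

theorem orbC_list : orbCList.length = 693 ∧ incr 0 orbCList = true ∧ inSet setC orbCList = true := by
  decide +kernel

end CfsgLib.Spor.Fi24.QuadCent
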