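import Cfsg.Agent.Lib.Spor.Fi24Sym.Base
import Cfsg.Agent.Lib.Spor.Fi24.QuadCent.ChkOrbit

/-!
The presented Fi24 is transitive on sequences of four distinct commuting transpositions; the bound for the
centraliser of four such transpositions.
-/

set_option autoImplicit false
set_option maxRecDepth 100000

namespace CfsgLib.Spor.Fi24.QuadCent

open CfsgLib.BitPerm Cfsg.Spor
open CfsgLib.Spor.Fi24 (sys okNets π π_gen gen sys_k i₀ transitive finite_Fi24 natCard)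
open CfsgLib.Spor.Fi24Sym (T el π_el ptW_lt tp_ptGen ptGen minus testBit_minus allPlanes fixesAll fixesAll_pi
  el_flatten_mem inSet_mem incr_nodup card_orbit_le π_el_eq)

attribute [local irreducible] sys setA setC

/-- the base quad -/
def qpt (a : Fin 4) : Fin 306936 := ⟨[0, 1, 5, 266].getD a 0, by revert a; decide⟩

theorem tp_qpt : T.tp (qpt 0) = gen .l ∧ T.tp (qpt 1) = gen .a ∧ T.tp (qpt 2) = gen .c ∧
    T.tp (qpt 3) = gen .e :=
  ⟨tp_ptGen .l, tp_ptGen .a, tp_ptGen .c, tp_ptGen .e⟩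

/-- the elements fixing a set of points -/
noncomputable def fixG (P : Set (Fin 306936)) : Subgroup Cfsg.Spor.Fi24 where
  carrier := {g | ∀ p ∈ P, π g p = p}
  one_mem' := fun p _ => by rw [map_one]; rfl
  mul_mem' := fun {a b} ha hb p hp => by rw [map_mul, Equiv.Perm.mul_apply, hb p hp, ha p hp]
  inv_mem' := fun {a} ha p hp => by rw [map_inv, Equiv.Perm.inv_eq_iff_eq, ha p hp]

theorem mem_fixG {P : Set (Fin 306936)} {g : Cfsg.Spor.Fi24} : g ∈ fixG P ↔ ∀ p ∈ P, π g p = p :=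
  Iff.rfl

theorem testBit_ones (n i : ℕ) : (Nat.sub (Nat.shiftLeft 1 n) 1).testBit i = decide (i < n) := by
  show ((1 <<< n) - 1).testBit i = _
  rw [Nat.one_shiftLeft, Nat.testBit_two_pow_sub_one]

theorem testBit_full (i : ℕ) : full.testBit i = decide (i < 306936) := by
  show (Nat.sub (Nat.shiftLeft 1 306936) 1).testBit i = _
  exact testBit_ones _ i

theorem mov_false (x : ℕ) {q : ℕ} (hq : q < 306936) :
    (sys.movW [x] allPlanes).testBit q = false ↔ sys.pt x q = q := by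
  have hlt : q < 2 ^ sys.k := by rw [sys_k]; exact lt_trans hq (by norm_num)
  constructor
  · intro e
    by_contra hne
    rw [Sys.movW_of_moved (w := [x]) (js := allPlanes) okNets
      (fun j hj => List.mem_range.2 (by rwa [sys_k] at hj)) hlt hne] at e
    exact Bool.noConfusion e
  · intro e
    by_contra hne
    exact Sys.moved_of_movW (w := [x]) okNets hlt (by simpa using hne) e

theorem testBit_three : ∀ q : ℕ, (3 : ℕ).testBit q = decide (q = 0 ∨ q = 1)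
  | 0 => by decide
  | 1 => by decide
  | q + 2 => by
    rw [Nat.testBit_succ, Nat.testBit_succ]
    simp

theorem setA_iff (q : ℕ) : setA.testBit q = true ↔
    q < 306936 ∧ sys.pt 0 q = q ∧ sys.pt 2 q = q ∧ q ≠ 0 ∧ q ≠ 1 := by
  unfold setA
  rw [testBit_minus, testBit_minus, testBit_full, testBit_three]
  show ((decide _ && !(_ ||| _ : ℕ).testBit q) && _) = true ↔ _
  simp only [Nat.testBit_or, Bool.and_eq_true, decide_eq_true_eq, Bool.not_eq_true', Bool.or_eq_false_iff,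
    decide_eq_false_iff_not, not_or]
  constructor
  · rintro ⟨⟨h, h0, h2⟩, h3⟩
    exact ⟨h, (mov_false 0 h).1 h0, (mov_false 2 h).1 h2, h3⟩
  · rintro ⟨h, h0, h2, h3⟩
    exact ⟨⟨h, (mov_false 0 h).2 h0, (mov_false 2 h).2 h2⟩, h3⟩

theorem setC_iff (q : ℕ) : setC.testBit q = true ↔
    q < 306936 ∧ sys.pt 0 q = q ∧ sys.pt 2 q = q ∧ sys.pt 4 q = q ∧ q ≠ 0 ∧ q ≠ 1 ∧ q ≠ 5 := by
  unfold setC
  rw [testBit_minus, testBit_minus, testBit_full]
  show ((decide _ && !((_ ||| _) ||| _ : ℕ).testBit q) && !(3 ||| (1 <<< 5) : ℕ).testBit q) = true ↔ _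
  simp only [Nat.testBit_or, testBit_three, Nat.one_shiftLeft, Nat.testBit_two_pow, Bool.and_eq_true,
    decide_eq_true_eq, Bool.not_eq_true', Bool.or_eq_false_iff, decide_eq_false_iff_not, not_or]
  constructor
  · rintro ⟨⟨h, ⟨h0, h2⟩, h4⟩, ⟨h5, h6⟩, h7⟩
    exact ⟨h, (mov_false 0 h).1 h0, (mov_false 2 h).1 h2, (mov_false 4 h).1 h4, h5, h6, Ne.symm h7⟩
  · rintro ⟨h, h0, h2, h4, h5, h6, h7⟩
    exact ⟨⟨h, ⟨(mov_false 0 h).2 h0, (mov_false 2 h).2 h2⟩, (mov_false 4 h).2 h4⟩, ⟨h5, h6⟩, Ne.symm h7⟩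

theorem reach {ws : List (List Nat)} {seq ps : List Nat} {p B : ℕ} (hp : p < 306936)
    (hfix : fixesAll ws ps = true)
    (hgrow : Nat.beq (sys.growW (seq.map fun k => ws.getD k []) (Nat.shiftLeft 1 p)) B = true)
    {P : Set (Fin 306936)} (hP : ∀ x ∈ P, (x : ℕ) ∈ ps) {q : Fin 306936} (hq : B.testBit q = true) :
    ∃ c ∈ fixG P, π c ⟨p, hp⟩ = q := by
  rw [← Nat.eq_of_beq_eq_true hgrow] at hq
  obtain ⟨l, hl, hr⟩ := Sys.growW_reach okNets hq
  have hmem : el l.flatten ∈ fixG P := el_flatten_mem fun w hw => by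
    obtain ⟨k, -, rfl⟩ := List.mem_map.1 (hl w hw)
    by_cases hk : k < ws.length
    · rw [List.getD_eq_getElem _ _ hk]
      exact fun x hx => fixesAll_pi hfix (List.getElem_mem hk) (hP x hx)
    · rw [List.getD_eq_default _ _ (not_lt.1 hk)]
      exact one_mem _
  refine ⟨(el l.flatten)⁻¹, inv_mem hmem, ?_⟩
  rw [map_inv, Equiv.Perm.inv_eq_iff_eq]
  exact (π_el_eq (j := ⟨p, hp⟩) hr).symm

/-- two points carry commuting transpositions -/
def Adj (p q : Fin 306936) : Prop := Commute (T.tp p) (T.tp q)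

theorem Adj.map {p q : Fin 306936} (g : Cfsg.Spor.Fi24) (h : Adj p q) : Adj (π g p) (π g q) := by
  show Commute (T.tp (T.π g p)) (T.tp (T.π g q))
  rw [← T.conj_tp, ← T.conj_tp]
  exact Commute.map h (MulAut.conj g).toMonoidHom

theorem Adj.fix {q : Fin 306936} {x : Fi24.Gen} {p : Fin 306936} (hp : T.tp p = gen x) (h : Adj p q) :
    sys.pt (Fi24.idx x) q = q := by
  have e := (T.commute_tp_iff _ _).1 (show Commute (gen x) (T.tp q) from hp ▸ h)
  rw [← π_gen]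
  exact congrArg Fin.val e

theorem orbit_one {q : Fin 306936} (h : Adj (qpt 0) q) (hne : q ≠ qpt 0) :
    ∃ c ∈ fixG {qpt 0}, π c (qpt 1) = q := by
  have hq0 : (q : ℕ) ≠ 0 := fun e => hne (Fin.ext e)
  have hfix : π (gen .l) q = q := (T.commute_tp_iff _ _).1 (tp_qpt.1 ▸ h)
  have hlt : (q : ℕ) < 31672 := by
    by_contra hge
    obtain ⟨c, hc, e⟩ := FischerTypes.orbB (i := ⟨31673, by norm_num⟩) (j := q) (by norm_num) (not_lt.1 hge)
    rw [← e, ← Equiv.Perm.mul_apply, ← map_mul, ← FischerTypes.H_comm c hc, map_mul,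
      Equiv.Perm.mul_apply, EmbeddingLike.apply_eq_iff_eq] at hfix
    have := congrArg Fin.val hfix
    rw [π_gen] at this
    exact absurd this (by decide +kernel)
  obtain ⟨c, hc, e⟩ := FischerTypes.orbA (i := ⟨1, by norm_num⟩) (j := q) ⟨le_rfl, by norm_num⟩ ⟨by omega, hlt⟩
  refine ⟨c, fun p hp => ?_, e⟩
  rw [Set.mem_singleton_iff.1 hp]
  exact CfsgLib.Spor.Fi24.H_fix c hc

/-- every sequence of four distinct commuting transpositions is conjugate to the base quad -/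
theorem quad_conj (p : Fin 4 → Fin 306936) (hinj : Function.Injective p) (h : ∀ a b, Adj (p a) (p b)) :
    ∃ g, ∀ a, π g (qpt a) = p a := by
  obtain ⟨g₁, hg₁⟩ := transitive (p 0)
  have hb : ∀ (g : Cfsg.Spor.Fi24) (x : Fin 306936), π g⁻¹ (π g x) = x := fun g x => by
    rw [map_inv]; exact (π g).symm_apply_apply x
  have hf : ∀ (g : Cfsg.Spor.Fi24) (x : Fin 306936), π g (π g⁻¹ x) = x := fun g x => by
    rw [map_inv]; exact (π g).apply_symm_apply x
  set r : Fin 4 → Fin 306936 := fun a => π g₁⁻¹ (p a) with hr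
  have r0 : r 0 = qpt 0 := by show π g₁⁻¹ (p 0) = qpt 0; rw [← hg₁, hb]; rfl
  have rI : Function.Injective r := (π g₁⁻¹).injective.comp hinj
  have rA : ∀ a b, Adj (r a) (r b) := fun a b => (h a b).map _
  obtain ⟨g₂, hg₂, e₂⟩ := orbit_one (q := r 1) (r0 ▸ rA 0 1) (fun e => by
    rw [← r0] at e; exact absurd (rI e) (by decide))
  set s : Fin 4 → Fin 306936 := fun a => π g₂⁻¹ (r a) with hs
  have s0 : s 0 = qpt 0 := by
    show π g₂⁻¹ (r 0) = qpt 0
    rw [r0]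
    exact (inv_mem hg₂ : g₂⁻¹ ∈ fixG {qpt 0}) _ rfl
  have s1 : s 1 = qpt 1 := by show π g₂⁻¹ (r 1) = qpt 1; rw [← e₂, hb]
  have sI : Function.Injective s := (π g₂⁻¹).injective.comp rI
  have sA : ∀ a b, Adj (s a) (s b) := fun a b => (rA a b).map _
  have sne : ∀ {a b : Fin 4}, a ≠ b → ((s a : Fin 306936) : ℕ) ≠ s b := fun hab e => hab (sI (Fin.ext e))
  obtain ⟨g₃, hg₃, e₃⟩ := reach (P := {qpt 0, qpt 1}) (p := 5) (by norm_num) orbA_fix orbA_grow
    (by rintro x (rfl | rfl) <;> simp [qpt]) (q := s 2) ((setA_iff _).2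
    ⟨(s 2).2, (s0 ▸ sA 0 2).fix tp_qpt.1, (s1 ▸ sA 1 2).fix tp_qpt.2.1,
      fun e => sne (a := 2) (b := 0) (by decide) (by rw [s0]; exact e),
      fun e => sne (a := 2) (b := 1) (by decide) (by rw [s1]; exact e)⟩)
  set u : Fin 4 → Fin 306936 := fun a => π g₃⁻¹ (s a) with hu
  have u01 : u 0 = qpt 0 ∧ u 1 = qpt 1 := by
    constructor
    · show π g₃⁻¹ (s 0) = qpt 0
      rw [s0]; exact (inv_mem hg₃ : g₃⁻¹ ∈ fixG _) _ (Or.inl rfl)
    · show π g₃⁻¹ (s 1) = qpt 1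
      rw [s1]; exact (inv_mem hg₃ : g₃⁻¹ ∈ fixG _) _ (Or.inr rfl)
  have u2 : u 2 = qpt 2 := by
    show π g₃⁻¹ (s 2) = qpt 2
    rw [← e₃, hb]; rfl
  have uI : Function.Injective u := (π g₃⁻¹).injective.comp sI
  have uA : ∀ a b, Adj (u a) (u b) := fun a b => (sA a b).map _
  have une : ∀ {a b : Fin 4}, a ≠ b → ((u a : Fin 306936) : ℕ) ≠ u b := fun hab e => hab (uI (Fin.ext e))
  obtain ⟨g₄, hg₄, e₄⟩ := reach (P := {qpt 0, qpt 1, qpt 2}) (p := 266) (by norm_num) orbC_fix orbC_grow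
    (by rintro x (rfl | rfl | rfl) <;> simp [qpt]) (q := u 3) ((setC_iff _).2
    ⟨(u 3).2, (u01.1 ▸ uA 0 3).fix tp_qpt.1, (u01.2 ▸ uA 1 3).fix tp_qpt.2.1,
      (u2 ▸ uA 2 3).fix tp_qpt.2.2.1,
      fun e => une (a := 3) (b := 0) (by decide) (by rw [u01.1]; exact e),
      fun e => une (a := 3) (b := 1) (by decide) (by rw [u01.2]; exact e),
      fun e => une (a := 3) (b := 2) (by decide) (by rw [u2]; exact e)⟩)
  refine ⟨g₁ * g₂ * g₃ * g₄, fun a => ?_⟩
  simp only [map_mul, Equiv.Perm.mul_apply]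
  fin_cases a
  · show π g₁ (π g₂ (π g₃ (π g₄ (qpt 0)))) = p 0
    rw [hg₄ _ (Or.inl rfl), hg₃ _ (Or.inl rfl), hg₂ _ rfl, ← r0, hr, hf]
  · show π g₁ (π g₂ (π g₃ (π g₄ (qpt 1)))) = p 1
    rw [hg₄ _ (Or.inr (Or.inl rfl)), hg₃ _ (Or.inr rfl), ← s1, hs, hf, hr, hf]
  · show π g₁ (π g₂ (π g₃ (π g₄ (qpt 2)))) = p 2
    rw [hg₄ _ (Or.inr (Or.inr rfl)), ← u2, hu, hf, hs, hf, hr, hf]
  · show π g₁ (π g₂ (π g₃ (π g₄ ⟨266, by norm_num⟩))) = p 3
    rw [e₄, hu, hf, hs, hf, hr, hf]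

theorem card_step (P : Set (Fin 306936)) (p : Fin 306936) {l : List ℕ} (hl : l.Nodup)
    (h : ∀ q ∈ l, ∃ c ∈ fixG P, ((π c p : Fin _) : ℕ) = q) :
    l.length * Nat.card (fixG (insert p P)) ≤ Nat.card (fixG P) := by
  have e : fixG (insert p P) = fixG P ⊓ Subgroup.centralizer {T.tp p} := by
    ext g
    rw [Subgroup.mem_inf, Subgroup.mem_centralizer_singleton_iff, mem_fixG, mem_fixG, Set.forall_mem_insert]
    exact ⟨fun hg => ⟨hg.2, ((T.commute_tp_iff g p).2 hg.1).eq⟩,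
      fun hg => ⟨(T.commute_tp_iff g p).1 hg.2, hg.1⟩⟩
  rw [e]
  exact card_orbit_le _ p hl h

theorem card_quad : Nat.card (fixG {qpt 3, qpt 2, qpt 1, qpt 0}) ≤ 106168320 := by
  haveI := finite_Fi24
  have h0 := card_step ∅ (qpt 0) (List.nodup_range (n := 306936)) fun q hq => by
    obtain ⟨g, hg⟩ := transitive ⟨q, List.mem_range.1 hq⟩
    exact ⟨g, by simp [mem_fixG], congrArg Fin.val hg⟩
  rw [List.length_range, show insert (qpt 0) (∅ : Set (Fin 306936)) = {qpt 0} by simp] at h0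
  have hG : Nat.card (fixG ∅) ≤ Nat.card Cfsg.Spor.Fi24 := Subgroup.card_le_card_group _
  rw [natCard] at hG
  have h1 := card_step {qpt 0} (qpt 1) (List.nodup_range' (s := 1) (n := 31671)) fun q hq => by
    rw [List.mem_range'_1] at hq
    obtain ⟨c, hc, e⟩ := FischerTypes.orbA (i := ⟨1, by norm_num⟩) (j := ⟨q, by omega⟩)
      ⟨le_rfl, by norm_num⟩ ⟨hq.1, by show q < 31672; omega⟩
    refine ⟨c, fun p hp => ?_, congrArg Fin.val e⟩
    rw [Set.mem_singleton_iff.1 hp]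
    exact CfsgLib.Spor.Fi24.H_fix c hc
  rw [List.length_range'] at h1
  obtain ⟨la, ia, sa⟩ := orbA_list
  have h2 := card_step {qpt 1, qpt 0} (qpt 2) (incr_nodup ia).1 fun q hq => by
    have hs := inSet_mem sa hq
    have hlt := ((setA_iff q).1 hs).1
    obtain ⟨c, hc, e⟩ := reach (P := {qpt 1, qpt 0}) (p := 5) (by norm_num) orbA_fix orbA_grow
      (by rintro x (rfl | rfl) <;> simp [qpt]) (q := ⟨q, hlt⟩) hs
    exact ⟨c, hc, congrArg Fin.val e⟩
  rw [la] at h2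
  obtain ⟨lc, ic, sc⟩ := orbC_list
  have h3 := card_step {qpt 2, qpt 1, qpt 0} (qpt 3) (incr_nodup ic).1 fun q hq => by
    have hs := inSet_mem sc hq
    have hlt := ((setC_iff q).1 hs).1
    obtain ⟨c, hc, e⟩ := reach (P := {qpt 2, qpt 1, qpt 0}) (p := 266) (by norm_num) orbC_fix orbC_grow
      (by rintro x (rfl | rfl | rfl) <;> simp [qpt]) (q := ⟨q, hlt⟩) hs
    exact ⟨c, hc, congrArg Fin.val e⟩
  rw [lc] at h3
  nlinarith

end CfsgLib.Spor.Fi24.QuadCent
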