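import Cfsg.Agent.Lib.Spor.Fi24.QuadCent.Cent
import Cfsg.Agent.Lib.Spor.Fi24.QuadCent.Quads
import Cfsg.Agent.Lib.Spor.Fi24.Main
import Cfsg.Agent.Lib.ThreeTransp.ProductUnique

/-!
The 126 decompositions of the product into four commuting transpositions are blocks for its centraliser, and
the bound for the order of this centraliser.
-/

set_option autoImplicit false
set_option maxRecDepth 100000

namespace CfsgLib.Spor.Fi24.QuadCent

open CfsgLib.BitPerm CfsgLib.PresCert Cfsg.Spor CfsgLib.ThreeTransp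
open CfsgLib.Spor.Fi24 (sys okNets π gen gen_sq allGens finite_Fi24 cosetFacts)
open CfsgLib.Spor.Fi24Sym (T el agree el_eq_of_agree letter)

attribute [local irreducible] sys

/-- the class of transpositions -/
def D : Set Cfsg.Spor.Fi24 := conjugatesOf (gen (.l : Fi24.Gen))

theorem tp_mem (q : Fin 306936) : T.tp q ∈ D := T.range_tp.le ⟨q, rfl⟩

theorem isGroup : Cfsg.IsThreeTranspositionGroup D := by
  have h := FischerTypes.three_transposition24 cosetFacts
  refine ⟨h.1, fun g d hd => ?_, h.2.2⟩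
  exact (show IsConj (gen (.l : Fi24.Gen)) d from hd).trans (isConj_iff.2 ⟨g, rfl⟩)

theorem hprim : Cfsg.IsPrimitiveUnderConj D := FischerTypes.primitive24 cosetFacts

theorem tclass : TClass D := by
  haveI := finite_Fi24
  refine tclass_of_class (FischerTypes.three_transposition24 cosetFacts)
    ⟨gen .l, mem_conjugatesOf_self, gen .a, FischerTypes.gen_mem cosetFacts .a, fun h => ?_⟩
  exact FischerTypes.moves_a (congrArg π h).symm

theorem hdata : HasPartnerData D := by
  haveI := finite_Fi24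
  exact hasPartnerData isGroup (Or.inr (FischerTypes.typeM24 cosetFacts))

theorem tp_sq (q : Fin 306936) : T.tp q * T.tp q = 1 := by
  have h := isGroup.1.1 _ (tp_mem q)
  rw [← pow_two, ← h, pow_orderOf_eq_one]

/-- four commuting transpositions with product `z0` -/
def IsQuad (l : List Cfsg.Spor.Fi24) : Prop :=
  l.Nodup ∧ l.length = 4 ∧ (∀ a ∈ l, a ∈ D) ∧ (∀ a ∈ l, ∀ b ∈ l, Commute a b) ∧ l.prod = z0

theorem quad_same {l l' : List Cfsg.Spor.Fi24} (hl : IsQuad l) (hl' : IsQuad l') {x : Cfsg.Spor.Fi24}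
    (hx : x ∈ l) (hx' : x ∈ l') : ∀ y, y ∈ l ↔ y ∈ l' := by
  classical
  haveI := finite_Fi24
  have key : ∀ {m : List Cfsg.Spor.Fi24}, IsQuad m → x ∈ m →
      ((m.erase x).Nodup ∧ (m.erase x).length = 3 ∧ (∀ a ∈ m.erase x, a ∈ D) ∧
        (∀ a ∈ m.erase x, ∀ b ∈ m.erase x, Commute a b) ∧ (m.erase x).prod = x⁻¹ * z0) ∧
      ∀ y, y ∈ m ↔ y = x ∨ y ∈ m.erase x := by
    intro m ⟨hn, hlen, hD, hc, hp⟩ hxm
    have hperm : (x :: m.erase x).Perm m := (List.perm_cons_erase hxm).symm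
    have e := hperm.prod_eq' (List.pairwise_of_forall_mem_list fun u hu v hv =>
      hc u (hperm.subset hu) v (hperm.subset hv))
    rw [List.prod_cons, hp] at e
    refine ⟨⟨hn.erase _, by rw [List.length_erase_of_mem hxm, hlen], fun a ha => hD a (List.mem_of_mem_erase ha),
      fun a ha b hb => hc a (List.mem_of_mem_erase ha) b (List.mem_of_mem_erase hb),
      (eq_inv_mul_iff_mul_eq.2 e)⟩, fun y => ?_⟩
    rw [← hperm.mem_iff, List.mem_cons]
  obtain ⟨h1, m1⟩ := key hl hx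
  obtain ⟨h2, m2⟩ := key hl' hx'
  have := tclass.product_unique hprim hdata (le_refl 3) h1 h2
  intro y
  rw [m1, m2, this y]

/-- the transposition of an index -/
noncomputable def tw504 (i : Fin 504) : Cfsg.Spor.Fi24 := T.tp (wpt i)

theorem tw504_injective : Function.Injective tw504 := T.tp_injective.comp wpt_injective

theorem conj_tw504 (g : E) (i : Fin 504) :
    (g : Cfsg.Spor.Fi24) * tw504 i * (g : Cfsg.Spor.Fi24)⁻¹ = tw504 (ρ g i) := by
  show _ = T.tp (wpt (ρ g i))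
  rw [ρ_spec]
  exact T.conj_tp _ _

/-- the transpositions of a block -/
noncomputable def bl (j : Fin 126) : List Cfsg.Spor.Fi24 := (List.finRange 4).map fun a => tw504 (cell j a)

theorem mem_bl {j : Fin 126} {x : Cfsg.Spor.Fi24} : x ∈ bl j ↔ ∃ a, tw504 (cell j a) = x := by
  simp [bl]

theorem bl_nodup (j : Fin 126) : (bl j).Nodup :=
  (List.nodup_finRange 4).map fun _ _ h => (cell_inj (tw504_injective h)).2

theorem bl_length (j : Fin 126) : (bl j).length = 4 := by simp [bl]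

theorem wpt_zero (a : Fin 4) : wpt (cell 0 a) = qpt a := by
  obtain ⟨h0, h1, h2, h3⟩ := quad_pts
  refine Fin.ext ?_
  fin_cases a
  exacts [h0, h1, h2, h3]

theorem rev_ok : agree [6, 4, 2, 0] zWord = true := by decide +kernel

theorem quad_comm_ok : ∀ x ∈ [0, 2, 4, 6], ∀ y ∈ [0, 2, 4, 6], agree [x, y] [y, x] = true := by decide +kernel

theorem bl_zero : IsQuad (bl 0) := by
  have hel : ∀ k, el [k] = letter k := fun k => by simp [el]
  have htw : ∀ a, tw504 (cell 0 a) = el [[0, 2, 4, 6].getD (a : ℕ) 0] := fun a => by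
    show T.tp _ = _
    rw [wpt_zero, hel]
    obtain ⟨h0, h1, h2, h3⟩ := tp_qpt
    fin_cases a
    exacts [h0, h1, h2, h3]
  refine ⟨bl_nodup 0, bl_length 0, fun x hx => ?_, fun x hx y hy => ?_, ?_⟩
  · obtain ⟨a, rfl⟩ := mem_bl.1 hx
    exact tp_mem _
  · obtain ⟨a, rfl⟩ := mem_bl.1 hx
    obtain ⟨b, rfl⟩ := mem_bl.1 hy
    rw [htw, htw]
    have hm : ∀ c : Fin 4, [0, 2, 4, 6].getD (c : ℕ) 0 ∈ [0, 2, 4, 6] := by decide
    have h := el_eq_of_agree (quad_comm_ok _ (hm b) _ (hm a))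
    simp only [el, one_mul] at h ⊢
    exact h
  · have e : bl 0 = [el [0], el [2], el [4], el [6]] := by
      rw [bl, show List.finRange 4 = [0, 1, 2, 3] by decide]
      simp only [List.map_cons, List.map_nil, htw]
      rfl
    rw [e, z0, ← el_eq_of_agree rev_ok]
    simp [el, mul_assoc]

theorem pres_of_table {σ : Equiv.Perm (Fin 504)} {f : ℕ → ℕ}
    (h : ∀ i : Fin 504, ((σ i : Fin 504) : ℕ) / 4 = f ((i : ℕ) / 4)) : σ ∈ pres := by
  refine mem_pres_of_forward fun i => Fin.ext ?_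
  show ((σ i : Fin 504) : ℕ) / 4 = ((σ (cell (blk i) 0) : Fin 504) : ℕ) / 4
  rw [h, h]
  congr 1
  simp [cell, blk]

theorem gC_pres {k : ℕ} (hk : k < 8) : ρC (gC k) ∈ pres := by
  refine pres_of_table (f := top.img k) fun i => ?_
  rw [gC_img (by omega)]
  exact Nat.eq_of_beq_eq_true (allBelow_spec (allBelow_spec top_link_ok k hk) i i.2)

theorem gC_block {k : ℕ} (hk : k < 8) (j : Fin 126) :
    ((blockHom ⟨_, gC_pres hk⟩ j : Fin 126) : ℕ) = top.img k j := by
  have h := congrArg Fin.val (blockHom_spec ⟨_, gC_pres hk⟩ (cell j 0))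
  rw [blk_cell] at h
  rw [← h]
  show ((ρC (gC k) (cell j 0) : Fin 504) : ℕ) / 4 = _
  rw [gC_img (by omega)]
  have := Nat.eq_of_beq_eq_true (allBelow_spec (allBelow_spec top_link_ok k hk) _ (cell j 0).2)
  rw [show (cell j 0 : ℕ).div 4 = j from congrArg Fin.val (blk_cell j 0)] at this
  exact this

theorem sub_gens_ok : subGens.length = 8 ∧ ∀ k < 8, subGens.getD k 0 < 11 + bigWords.length := by
  decide +kernel

theorem sub_elem {k : ℕ} (hk : k < 8) : ∃ c : C0, (∀ i : Fin 504,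
    ((ρC c i : Fin 504) : ℕ) = big.img (subGens.getD k 0) i) ∧ ∃ h : ρC c ∈ pres,
      ∀ j : Fin 126, ((blockHom ⟨_, h⟩ j : Fin 126) : ℕ) = sub.img k j := by
  obtain ⟨c, hc⟩ := big_elem (sub_gens_ok.2 k hk)
  have hl := fun i : Fin 504 => Nat.eq_of_beq_eq_true (allBelow_spec (allBelow_spec sub_link_ok k hk) i i.2)
  have h : ρC c ∈ pres := pres_of_table (f := sub.img k) fun i => by rw [hc]; exact hl i
  refine ⟨c, hc, h, fun j => ?_⟩
  have e := congrArg Fin.val (blockHom_spec ⟨_, h⟩ (cell j 0))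
  rw [blk_cell] at e
  rw [← e]
  show ((ρC c (cell j 0) : Fin 504) : ℕ) / 4 = _
  rw [hc]
  have := hl (cell j 0)
  rw [show (cell j 0 : ℕ).div 4 = j from congrArg Fin.val (blk_cell j 0)] at this
  exact this

/-- the part of `C0` known to respect the blocks -/
noncomputable def presC : Subgroup C0 := pres.comap ρC

/-- its action on the blocks -/
noncomputable def blkC : presC →* Equiv.Perm (Fin 126) :=
  blockHom.comp ((ρC.comp presC.subtype).codRestrict pres fun g => g.2)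

/-- generators of the subgroup, on the blocks -/
noncomputable def subC (k : ℕ) : presC :=
  if h : k < 8 then ⟨(sub_elem h).choose, (sub_elem h).choose_spec.2.choose⟩ else 1

theorem subC_blk {k : ℕ} (hk : k < 8) (j : Fin 126) :
    ((blkC (subC k) j : Fin 126) : ℕ) = sub.img k j := by
  rw [subC, dif_pos hk]
  exact (sub_elem hk).choose_spec.2.choose_spec j

theorem subC_tab {k : ℕ} (hk : k < 8) (i : Fin 504) :
    ((ρC (subC k : C0) i : Fin 504) : ℕ) = big.img (subGens.getD k 0) i := by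
  rw [subC, dif_pos hk]
  exact (sub_elem hk).choose_spec.1 i

/-- the meaning of the tables of the subgroup -/
noncomputable def subI : PermData.Interp sub := ⟨fun k => blkC (subC k), fun _ hk j => subC_blk hk j⟩

theorem sub_grp_le : PermData.grp subI ≤ blkC.range := by
  rw [PermData.grp, Subgroup.closure_le]
  rintro _ ⟨k, -, rfl⟩
  exact ⟨subC k, rfl⟩

theorem sub_transitive (j : Fin 126) : ∃ σ ∈ PermData.grp subI, σ 0 = j := by
  have h := sub_orbit_ok
  simp only [PermData.okOrbit, Bool.and_eq_true, List.all_eq_true, Nat.blt_eq, Nat.beq_eq] at h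
  obtain ⟨⟨⟨⟨⟨-, horb0⟩, -⟩, -⟩, hgens⟩, horb'⟩ := h
  have horb := fun p hp => allBelow_spec horb' p hp
  simp only [Bool.and_eq_true, Bool.or_eq_true, Nat.blt_eq, Nat.beq_eq] at horb
  have key : ∀ p, p < subLev.len →
      ∃ σ ∈ PermData.grp subI, ((σ 0 : Fin 126) : ℕ) = Nat.land (subLev.orb.word p) 65535 := by
    intro p
    induction p using Nat.strong_induction_on with
    | _ p ih =>
      intro hp
      obtain ⟨-, hp0 | ⟨⟨hpar, hk⟩, himg⟩⟩ := horb p hp
      · subst hp0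
        exact ⟨1, one_mem _, horb0.symm⟩
      obtain ⟨σ, hσ, eσ⟩ := ih _ hpar (hpar.trans hp)
      have hmem : subLev.gens.getD (Nat.shiftRight (subLev.orb.word p) 32) 0 ∈ subLev.gens := by
        rw [List.getD_eq_getElem _ _ hk]
        exact List.getElem_mem hk
      obtain ⟨τ, hτ, eτ⟩ := PermData.elem_exists subI sub_words_ok _ (hgens _ hmem)
      refine ⟨τ * σ, mul_mem hτ hσ, ?_⟩
      rw [Equiv.Perm.mul_apply, eτ, eσ, himg]
  let f : Fin 126 → Fin 126 := fun p => ⟨Nat.land (subLev.orb.word p) 65535, (horb p p.2).1.1⟩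
  have hf : Function.Injective f := fun p q e => by
    have e' : Nat.land (subLev.orb.word p) 65535 = Nat.land (subLev.orb.word q) 65535 := congrArg Fin.val e
    exact Fin.ext (by rw [← (horb p p.2).1.2, ← (horb q q.2).1.2, e'])
  obtain ⟨p, rfl⟩ := Finite.injective_iff_surjective.1 hf j
  obtain ⟨σ, hσ, e⟩ := key p p.2
  exact ⟨σ, hσ, Fin.ext e⟩

/-- an element carrying the first block to any other -/
theorem exists_rep (j : Fin 126) : ∃ c : C0, ∀ a, ∃ b, ρC c (cell 0 a) = cell j b := by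
  obtain ⟨σ, hσ, e⟩ := sub_transitive j
  obtain ⟨c, rfl⟩ := sub_grp_le hσ
  refine ⟨c.1, fun a => ⟨loc (ρC c.1 (cell 0 a)), ?_⟩⟩
  conv_lhs => rw [← cell_eta (ρC c.1 (cell 0 a))]
  congr 1
  have := blockHom_spec ⟨ρC c.1, c.2⟩ (cell 0 a)
  rw [blk_cell] at this
  exact this.trans e

theorem quad_conjugate {l : List Cfsg.Spor.Fi24} (h : IsQuad l) (g : E) :
    IsQuad (l.map fun x => (g : Cfsg.Spor.Fi24) * x * (g : Cfsg.Spor.Fi24)⁻¹) := by
  obtain ⟨hn, hlen, hD, hc, hp⟩ := h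
  refine ⟨hn.map fun a b e => mul_left_cancel (mul_right_cancel e), by rw [List.length_map, hlen], ?_, ?_, ?_⟩
  · intro x hx
    obtain ⟨y, hy, rfl⟩ := List.mem_map.1 hx
    exact isGroup.2.1 _ _ (hD y hy)
  · intro x hx y hy
    obtain ⟨u, hu, rfl⟩ := List.mem_map.1 hx
    obtain ⟨v, hv, rfl⟩ := List.mem_map.1 hy
    exact (hc u hu v hv).map (MulAut.conj (g : Cfsg.Spor.Fi24)).toMonoidHom
  · show (l.map ⇑(MulAut.conj (g : Cfsg.Spor.Fi24))).prod = z0
    rw [← map_list_prod, hp, MulAut.conj_apply, mem_E.1 g.2, mul_inv_cancel_right]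

theorem bl_quad (j : Fin 126) : IsQuad (bl j) := by
  classical
  obtain ⟨c, hc⟩ := exists_rep j
  have h := quad_conjugate bl_zero (Subgroup.inclusion C0_le c)
  obtain ⟨hn, hlen, hD, hcm, hp⟩ := h
  have hsub : ∀ x ∈ (bl 0).map (fun x => ((Subgroup.inclusion C0_le c : E) : Cfsg.Spor.Fi24) * x *
      ((Subgroup.inclusion C0_le c : E) : Cfsg.Spor.Fi24)⁻¹), x ∈ bl j := by
    intro x hx
    obtain ⟨y, hy, rfl⟩ := List.mem_map.1 hx
    obtain ⟨a, rfl⟩ := mem_bl.1 hy
    obtain ⟨b, hb⟩ := hc a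
    rw [conj_tw504]
    exact mem_bl.2 ⟨b, congrArg tw504 hb.symm⟩
  have hperm := (List.subperm_of_subset hn hsub).perm_of_length_le (by rw [hlen, bl_length])
  refine ⟨bl_nodup j, bl_length j, fun x hx => hD x (hperm.symm.subset hx),
    fun x hx y hy => hcm x (hperm.symm.subset hx) y (hperm.symm.subset hy), ?_⟩
  rw [← hp]
  exact (hperm.prod_eq' (List.pairwise_of_forall_mem_list hcm)).symm

theorem ρ_mem_pres (g : E) : ρ g ∈ pres := by
  refine mem_pres_of_forward fun i => ?_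
  have hl := quad_conjugate (bl_quad (blk i)) g
  have hx : ∀ a, tw504 (ρ g (cell (blk i) a)) ∈
      (bl (blk i)).map fun x => (g : Cfsg.Spor.Fi24) * x * (g : Cfsg.Spor.Fi24)⁻¹ :=
    fun a => List.mem_map.2 ⟨_, mem_bl.2 ⟨a, rfl⟩, conj_tw504 g _⟩
  have hown : ∀ k, tw504 k ∈ bl (blk k) := fun k => mem_bl.2 ⟨loc k, by rw [cell_eta]⟩
  have hi := hx (loc i)
  rw [cell_eta] at hi
  obtain ⟨b, hb⟩ := mem_bl.1 ((quad_same hl (bl_quad _) hi (hown _) _).1 (hx 0))
  rw [← tw504_injective hb, blk_cell]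

/-- the action of the centraliser on the blocks -/
noncomputable def θ : E →* Equiv.Perm (Fin 126) := blockHom.comp (ρ.codRestrict pres ρ_mem_pres)

theorem θ_spec (g : E) (i : Fin 504) : blk (ρ g i) = θ g (blk i) := blockHom_spec ⟨ρ g, ρ_mem_pres g⟩ i

theorem card_le_mul {A B : Type*} [Group A] [Finite A] [Finite B] (f : A → B) (K : Subgroup A)
    (h : ∀ a b, f a = f b → a⁻¹ * b ∈ K) : Nat.card A ≤ Nat.card B * Nat.card K := by
  haveI : Nonempty A := ⟨1⟩
  rw [← Nat.card_prod]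
  refine Nat.card_le_card_of_injective
    (fun a => (f a, (⟨(Function.invFun f (f a))⁻¹ * a, h _ _ (Function.invFun_eq ⟨a, rfl⟩)⟩ : K))) ?_
  intro a b e
  simp only [Prod.mk.injEq, Subtype.mk.injEq] at e
  obtain ⟨e1, e2⟩ := e
  rw [e1] at e2
  exact mul_left_cancel e2

theorem card_E_le : Nat.card E ≤ 321052999680 := by
  haveI := finite_Fi24
  classical
  let Hs : Subgroup E := (MulAction.stabilizer (Equiv.Perm (Fin 126)) (0 : Fin 126)).comap θ
  have hHs : ∀ g : E, g ∈ Hs ↔ θ g 0 = 0 := fun g => Iff.rfl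
  have h1 := card_le_mul (fun g : E => θ g 0) Hs fun a b e => (hHs _).2 (by
    rw [map_mul, map_inv, Equiv.Perm.mul_apply, ← e]
    exact (θ a).symm_apply_apply 0)
  have hinj : ∀ g : Hs, Function.Injective fun a => loc (ρ g.1 (cell 0 a)) := by
    intro g a b e
    have hb : ∀ c, blk (ρ g.1 (cell 0 c)) = 0 := fun c => by rw [θ_spec, blk_cell]; exact (hHs _).1 g.2
    have : ρ g.1 (cell 0 a) = ρ g.1 (cell 0 b) := by
      rw [← cell_eta (ρ g.1 (cell 0 a)), ← cell_eta (ρ g.1 (cell 0 b)), hb, hb]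
      exact congrArg (cell 0) e
    exact (cell_inj ((ρ g.1).injective this)).2
  let f2 : Hs → Equiv.Perm (Fin 4) := fun g =>
    Equiv.ofBijective _ (Finite.injective_iff_bijective.1 (hinj g))
  let Fx : Subgroup Hs := (fixG {qpt 3, qpt 2, qpt 1, qpt 0}).comap (E.subtype.comp Hs.subtype)
  have h2 := card_le_mul f2 Fx fun a b e => by
    have hab : ∀ c, ρ a.1 (cell 0 c) = ρ b.1 (cell 0 c) := fun c => by
      rw [← cell_eta (ρ a.1 (cell 0 c)), ← cell_eta (ρ b.1 (cell 0 c)), θ_spec, θ_spec, blk_cell,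
        (hHs _).1 a.2, (hHs _).1 b.2]
      exact congrArg (cell 0) (Equiv.congr_fun e c)
    show ∀ p ∈ ({qpt 3, qpt 2, qpt 1, qpt 0} : Set (Fin 306936)), π (((a⁻¹ * b : Hs) : E) : Cfsg.Spor.Fi24) p = p
    intro p hp
    obtain ⟨c, rfl⟩ : ∃ c, qpt c = p := by
      rcases hp with rfl | rfl | rfl | rfl <;> exact ⟨_, rfl⟩
    rw [← wpt_zero c, ← ρ_spec, Subgroup.coe_mul, map_mul, Equiv.Perm.mul_apply, ← hab, Subgroup.coe_inv,
      map_inv, Equiv.Perm.inv_def, Equiv.symm_apply_apply]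
  have h3 : Nat.card Fx ≤ 106168320 := by
    refine le_trans ?_ card_quad
    exact Nat.card_le_card_of_injective
      (fun g : Fx => (⟨((g.1.1 : E) : Cfsg.Spor.Fi24), g.2⟩ : fixG {qpt 3, qpt 2, qpt 1, qpt 0}))
      fun a b e => Subtype.ext (Subtype.ext (Subtype.ext (congrArg (fun x : fixG {qpt 3, qpt 2, qpt 1, qpt 0} => (x : Cfsg.Spor.Fi24)) e)))
  simp only [Nat.card_eq_fintype_card (α := Fin 126), Fintype.card_fin] at h1
  rw [Nat.card_eq_fintype_card (α := Equiv.Perm (Fin 4)), Fintype.card_perm, Fintype.card_fin,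
    show Nat.factorial 4 = 24 by decide] at h2
  calc Nat.card E ≤ 126 * Nat.card Hs := h1
    _ ≤ 126 * (24 * 106168320) := Nat.mul_le_mul_left _ (h2.trans (Nat.mul_le_mul_left _ h3))
    _ = 321052999680 := by norm_num

end CfsgLib.Spor.Fi24.QuadCent
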