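import Cfsg.Agent.Lib.Spor.Fi24.QuadCent.Data

/-!
Permutations of 504 points in 126 blocks of four: the permutations respecting the blocks, their action on
the blocks, and the group acting in each block as a translation.
-/

set_option autoImplicit false
set_option maxRecDepth 100000

namespace CfsgLib.Spor.Fi24.QuadCent

open Equiv

/-- the block of a point -/
def blk (i : Fin 504) : Fin 126 := ⟨i / 4, by omega⟩

/-- the place of a point in its block -/
def loc (i : Fin 504) : Fin 4 := ⟨i % 4, by omega⟩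

/-- the point with given block and place -/
def cell (j : Fin 126) (a : Fin 4) : Fin 504 := ⟨4 * j + a, by omega⟩

theorem blk_cell (j : Fin 126) (a : Fin 4) : blk (cell j a) = j := by
  apply Fin.ext; simp [blk, cell]; omega

theorem loc_cell (j : Fin 126) (a : Fin 4) : loc (cell j a) = a := by
  apply Fin.ext; simp [loc, cell]; try omega

theorem cell_eta (i : Fin 504) : cell (blk i) (loc i) = i := by
  apply Fin.ext; simp [blk, loc, cell]; omega

theorem cell_inj {j j' : Fin 126} {a a' : Fin 4} (h : cell j a = cell j' a') : j = j' ∧ a = a' :=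
  ⟨by rw [← blk_cell j a, h, blk_cell], by rw [← loc_cell j a, h, loc_cell]⟩

theorem exists_cell (i : Fin 504) : ∃ j a, i = cell j a := ⟨_, _, (cell_eta i).symm⟩

/-- translation of a place -/
def xr (a v : Fin 4) : Fin 4 := ⟨Nat.xor a v % 4, Nat.mod_lt _ (by norm_num)⟩

theorem xr_zero : ∀ a, xr a 0 = a := by decide

theorem xr_self : ∀ a v, xr (xr a v) v = a := by decide

theorem xr_comm : ∀ a v w, xr (xr a v) w = xr (xr a w) v := by decide

theorem xr_assoc : ∀ a v w, xr (xr a v) w = xr a (xr v w) := by decide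

theorem xr_conj : ∀ s : Fin 4 → Fin 4, Function.Injective s → ∀ v, ∃ v', ∀ a, s (xr a v) = xr (s a) v' := by
  decide +kernel

/-- the permutations respecting the blocks -/
def pres : Subgroup (Perm (Fin 504)) where
  carrier := {σ | ∃ τ : Perm (Fin 126), ∀ i, blk (σ i) = τ (blk i)}
  one_mem' := ⟨1, fun _ => rfl⟩
  mul_mem' := by
    rintro a b ⟨s, hs⟩ ⟨t, ht⟩
    exact ⟨s * t, fun i => by rw [Perm.mul_apply, hs, ht, Perm.mul_apply]⟩
  inv_mem' := by
    rintro a ⟨s, hs⟩
    refine ⟨s⁻¹, fun i => ?_⟩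
    have := hs (a⁻¹ i)
    rw [Perm.inv_def, Equiv.apply_symm_apply] at this
    rw [Perm.inv_def, Perm.inv_def, Equiv.eq_symm_apply, ← this]

theorem pres_unique {σ : Perm (Fin 504)} {s t : Perm (Fin 126)} (hs : ∀ i, blk (σ i) = s (blk i))
    (ht : ∀ i, blk (σ i) = t (blk i)) : s = t :=
  Equiv.ext fun j => by rw [← blk_cell j 0, ← hs, ht]

/-- the action on the blocks -/
noncomputable def blockHom : pres →* Perm (Fin 126) where
  toFun σ := σ.2.choose
  map_one' := pres_unique (σ := (1 : Perm (Fin 504))) (1 : pres).2.choose_spec fun _ => rfl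
  map_mul' a b := pres_unique (σ := (a * b : pres).1) (a * b).2.choose_spec fun i => by
    show blk ((a.1 * b.1) i) = _
    rw [Perm.mul_apply, a.2.choose_spec, b.2.choose_spec, Perm.mul_apply]

theorem blockHom_spec (σ : pres) (i : Fin 504) : blk (σ.1 i) = blockHom σ (blk i) := σ.2.choose_spec i

theorem mem_pres_of_forward {σ : Perm (Fin 504)} (h : ∀ i, blk (σ i) = blk (σ (cell (blk i) 0))) :
    σ ∈ pres := by
  let f : Fin 126 → Fin 126 := fun j => blk (σ (cell j 0))
  have hf : Function.Surjective f := fun j =>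
    ⟨blk (σ.symm (cell j 0)), by
      show blk (σ (cell (blk (σ.symm (cell j 0))) 0)) = j
      rw [← h, Equiv.apply_symm_apply, blk_cell]⟩
  exact ⟨Equiv.ofBijective f ⟨Finite.injective_iff_surjective.2 hf, hf⟩, fun i => h i⟩

/-- acting in each block as a translation -/
def trl : Subgroup (Perm (Fin 504)) where
  carrier := {σ | ∀ j, ∃ v, ∀ a, σ (cell j a) = cell j (xr a v)}
  one_mem' := fun _ => ⟨0, fun a => by rw [xr_zero]; rfl⟩
  mul_mem' := by
    intro s t hs ht j
    obtain ⟨v, hv⟩ := hs j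
    obtain ⟨w, hw⟩ := ht j
    exact ⟨xr w v, fun a => by rw [Perm.mul_apply, hw, hv, xr_assoc]⟩
  inv_mem' := by
    intro s hs j
    obtain ⟨v, hv⟩ := hs j
    refine ⟨v, fun a => ?_⟩
    rw [Perm.inv_def, Equiv.symm_apply_eq, hv, xr_self]

theorem trl_sq {σ : Perm (Fin 504)} (h : σ ∈ trl) : σ * σ = 1 := by
  refine Equiv.ext fun i => ?_
  obtain ⟨j, a, rfl⟩ := exists_cell i
  obtain ⟨v, hv⟩ := h j
  rw [Perm.mul_apply, hv, hv, xr_self]; rfl

theorem trl_comm {s t : Perm (Fin 504)} (hs : s ∈ trl) (ht : t ∈ trl) : s * t = t * s := by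
  refine Equiv.ext fun i => ?_
  obtain ⟨j, a, rfl⟩ := exists_cell i
  obtain ⟨v, hv⟩ := hs j
  obtain ⟨w, hw⟩ := ht j
  rw [Perm.mul_apply, Perm.mul_apply, hw, hv, hv, hw, xr_comm]

theorem trl_le_pres : trl ≤ pres := fun σ h => ⟨1, fun i => by
  obtain ⟨j, a, rfl⟩ := exists_cell i
  obtain ⟨v, hv⟩ := h j
  rw [hv, blk_cell, blk_cell]; rfl⟩

theorem trl_blockHom {σ : pres} (h : σ.1 ∈ trl) : blockHom σ = 1 :=
  pres_unique σ.2.choose_spec fun i => by
    obtain ⟨j, a, rfl⟩ := exists_cell i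
    obtain ⟨v, hv⟩ := h j
    rw [hv, blk_cell, blk_cell]; rfl

theorem trl_conj {σ s : Perm (Fin 504)} (hσ : σ ∈ pres) (hs : s ∈ trl) : σ * s * σ⁻¹ ∈ trl := by
  obtain ⟨τ, hτ⟩ := hσ
  intro j
  set j₀ := τ.symm j
  obtain ⟨v, hv⟩ := hs j₀
  let f : Fin 4 → Fin 4 := fun a => loc (σ (cell j₀ a))
  have hf : ∀ a, σ (cell j₀ a) = cell j (f a) := fun a => by
    conv_lhs => rw [← cell_eta (σ (cell j₀ a))]
    rw [hτ, blk_cell, Equiv.apply_symm_apply]
  have hinj : Function.Injective f := fun a b e =>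
    (cell_inj (σ.injective ((hf a).trans (by rw [e, hf b])))).2
  obtain ⟨v', hv'⟩ := xr_conj f hinj v
  refine ⟨v', fun c => ?_⟩
  obtain ⟨a, rfl⟩ := Finite.injective_iff_surjective.1 hinj c
  rw [Perm.mul_apply, Perm.mul_apply, ← hf, Perm.inv_def, Equiv.symm_apply_apply, hv, hf, hv']

end CfsgLib.Spor.Fi24.QuadCent
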