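import Cfsg.Agent.Lib.Spor.Fi24.QuadCent.Defs

/-!
The images of the listed points under the generators.
-/

set_option autoImplicit false
set_option maxRecDepth 100000
set_option Elab.async false

namespace CfsgLib.Spor.Fi24.QuadCent

open CfsgLib.BitPerm CfsgLib.PresCert
open CfsgLib.Spor.Fi24 (sys)
open CfsgLib.Spor.Fi24Sym (fixesAll inSet incr)

theorem img_ok_0 : okImg 0 = true := by decide +kernel

theorem img_ok_1 : okImg 1 = true := by decide +kernel

theorem img_ok_2 : okImg 2 = true := by decide +kernel

theorem img_ok_3 : okImg 3 = true := by decide +kernel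

theorem img_ok_4 : okImg 4 = true := by decide +kernel

theorem img_ok_5 : okImg 5 = true := by decide +kernel

theorem img_ok_6 : okImg 6 = true := by decide +kernel

theorem img_ok_7 : okImg 7 = true := by decide +kernel

theorem img_ok_8 : okImg 8 = true := by decide +kernel

theorem img_ok_9 : okImg 9 = true := by decide +kernel

theorem img_ok_10 : okImg 10 = true := by decide +kernel

theorem img_ok : ∀ k < 11, okImg k = true := by
  intro k hk
  interval_cases k
  exacts [img_ok_0, img_ok_1, img_ok_2, img_ok_3, img_ok_4, img_ok_5, img_ok_6, img_ok_7, img_ok_8, img_ok_9, img_ok_10]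

end CfsgLib.Spor.Fi24.QuadCent
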