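import Cfsg.Agent.Lib.Spor.Fi24.QuadCent.Defs

/-!
The tables of permutations.
-/

set_option autoImplicit false
set_option maxRecDepth 100000
set_option Elab.async false

namespace CfsgLib.Spor.Fi24.QuadCent

open CfsgLib.BitPerm CfsgLib.PresCert
open CfsgLib.Spor.Fi24 (sys)
open CfsgLib.Spor.Fi24Sym (fixesAll inSet incr)

theorem w_ok : okW = true := by decide +kernel

theorem rank_ok : okRank = true := by decide +kernel

theorem top_link_ok : okTop = true := by decide +kernel

theorem sub_link_ok : okSub = true := by decide +kernel

theorem x_ok : okX = true := by decide +kernel

theorem conj_tab_ok : okConj = true := by decide +kernel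

theorem last_ok : okLast = true := by decide +kernel

theorem bases_ok : okBases = true := by decide +kernel

theorem obj_ok : okObj = true := by decide +kernel

theorem stab_ok : okStab = true := by decide +kernel

theorem flip_ok : (List.range 8).all okFlip = true := by decide +kernel

theorem big_words_ok : big.okWords big.g big.words = true := by decide +kernel

theorem ker_words_ok : ker.okWords ker.g ker.words = true := by decide +kernel

theorem quot_words_ok : quot.okWords quot.g quot.words = true := by decide +kernel

theorem top_words_ok : top.okWords top.g top.words = true := by decide +kernel

theorem sub_words_ok : sub.okWords sub.g sub.words = true := by decide +kernel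

theorem ker_levels_ok : ker.okLevels [] kerLevels = true := by decide +kernel

theorem quot_levels_ok : quot.okLevels [] quotLevels = true := by decide +kernel

theorem top_levels_ok : top.okLevels [] topLevels = true := by decide +kernel

theorem sub_orbit_ok : sub.okOrbit subLev = true := by decide +kernel

theorem quad_pts : wp 0 = 0 ∧ wp 1 = 1 ∧ wp 2 = 5 ∧ wp 3 = 266 := by decide +kernel

theorem obj_nodup : objMasks.Nodup ∧ objMasks.length = 112 := by decide +kernel

theorem zWord_moves : Nat.beq (sys.ptW zWord 31673) 31673 = false := by decide +kernel

end CfsgLib.Spor.Fi24.QuadCent
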