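import Cfsg.Agent.Lib.Spor.Fi24Sym.Base
import Cfsg.Agent.Lib.PresCert.PermSound
import Cfsg.Agent.Lib.Spor.Fi24.QuadCent.Cells
import Cfsg.Agent.Lib.Spor.Fi24.QuadCent.ChkImg
import Cfsg.Agent.Lib.Spor.Fi24.QuadCent.ChkTab

/-!
The centraliser of the product of the base quad permutes the 504 points fixed by the product; generators of its
intersection with the commutator subgroup and their images.
-/

set_option autoImplicit false
set_option maxRecDepth 100000

namespace CfsgLib.Spor.Fi24.QuadCent

open CfsgLib.BitPerm CfsgLib.PresCert Cfsg.Spor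
open CfsgLib.Spor.Fi24 (sys okNets π π_gen gen gen_sq sys_k parity parity_gen index_commutator finite_Fi24)
open CfsgLib.Spor.Fi24Sym (T el el_append π_el ptW_lt agree el_eq_of_agree tw tp_tw letter π_el_eq minus
  testBit_minus allPlanes)

attribute [local irreducible] sys wBits

/-- the product of the base quad -/
noncomputable def z0 : Cfsg.Spor.Fi24 := el zWord

theorem testBit_ones' (n i : ℕ) : (Nat.sub (Nat.shiftLeft 1 n) 1).testBit i = decide (i < n) := by
  show ((1 <<< n) - 1).testBit i = _
  rw [Nat.one_shiftLeft, Nat.testBit_two_pow_sub_one]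

theorem testBit_foldl (f : ℕ → ℕ) : ∀ (l : List ℕ) (B q : ℕ),
    (l.foldl (fun B i => Nat.lor B (Nat.shiftLeft 1 (f i))) B).testBit q = true ↔
      B.testBit q = true ∨ ∃ i ∈ l, f i = q
  | [], B, q => by simp
  | x :: l, B, q => by
    rw [List.foldl_cons, testBit_foldl f l]
    show (B ||| (1 <<< f x)).testBit q = true ∨ _ ↔ _
    rw [Nat.testBit_or, Bool.or_eq_true, Nat.one_shiftLeft, Nat.testBit_two_pow, decide_eq_true_eq]
    simp only [List.exists_mem_cons_iff]
    tauto

theorem rank_spec : (∀ i < 504, wp i < 306936 ∧ rankTab.half i < 504 ∧ srtTab.half (rankTab.half i) = i) ∧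
    ∀ r < 503, wp (srtTab.half r) < wp (srtTab.half (r + 1)) := by
  have h := rank_ok
  simp only [okRank, Bool.and_eq_true] at h
  refine ⟨fun i hi => ?_, fun r hr => ?_⟩
  · have := allBelow_spec h.1 i hi
    simp only [Bool.and_eq_true, Nat.blt_eq, Nat.beq_eq] at this
    exact ⟨this.1.1, this.1.2, this.2⟩
  · exact Nat.blt_eq.mp (allBelow_spec h.2 r hr)

/-- a point fixed by the product, by its index -/
noncomputable def wpt (i : Fin 504) : Fin 306936 := ⟨wp i, (rank_spec.1 i i.2).1⟩

theorem wp_mono : ∀ d r, r + d + 1 < 504 → wp (srtTab.half r) < wp (srtTab.half (r + d + 1)) := by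
  intro d
  induction d with
  | zero => exact fun r h => rank_spec.2 r (by omega)
  | succ d ih =>
    intro r h
    have h1 := ih r (by omega)
    have h2 := rank_spec.2 (r + d + 1) (by omega)
    have e : r + (d + 1) + 1 = r + d + 1 + 1 := by omega
    rw [e]
    exact lt_trans h1 h2

theorem wpt_injective : Function.Injective wpt := by
  intro i j h
  have h' : wp i = wp j := congrArg Fin.val h
  obtain ⟨-, hi, ei⟩ := rank_spec.1 i i.2
  obtain ⟨-, hj, ej⟩ := rank_spec.1 j j.2
  rw [← ei, ← ej] at h'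
  rcases lt_trichotomy (rankTab.half i) (rankTab.half j) with hl | hl | hl
  · obtain ⟨d, hd⟩ := Nat.exists_eq_add_of_lt hl
    rw [hd] at h'
    exact absurd h' (wp_mono d _ (by omega)).ne
  · exact Fin.ext (by rw [← ei, ← ej, hl])
  · obtain ⟨d, hd⟩ := Nat.exists_eq_add_of_lt hl
    rw [hd] at h'
    exact absurd h' (wp_mono d _ (by omega)).ne'

theorem wBits_iff (q : ℕ) : wBits.testBit q = true ↔ ∃ i : Fin 504, wp i = q := by
  unfold wBits
  rw [testBit_foldl]
  simp only [Nat.zero_testBit, Bool.false_eq_true, false_or, List.mem_range]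
  exact ⟨fun ⟨i, hi, e⟩ => ⟨⟨i, hi⟩, e⟩, fun ⟨i, e⟩ => ⟨i, i.2, e⟩⟩

theorem z0_fix_iff (q : Fin 306936) : π z0 q = q ↔ ∃ i, wpt i = q := by
  have hlt : (q : ℕ) < 2 ^ sys.k := by rw [sys_k]; exact lt_trans q.2 (by norm_num)
  have hfull : full.testBit q = true := by
    show (Nat.sub (Nat.shiftLeft 1 306936) 1).testBit q = true
    rw [testBit_ones', decide_eq_true_eq]
    exact q.2
  have e : wBits.testBit q = (!(sys.movW zWord allPlanes).testBit q) := by
    rw [← Nat.eq_of_beq_eq_true w_ok, testBit_minus, hfull, Bool.true_and]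
  have hm : (sys.movW zWord allPlanes).testBit q = true ↔ sys.ptW zWord q ≠ q :=
    ⟨Sys.moved_of_movW okNets hlt, Sys.movW_of_moved okNets
      (fun j hj => List.mem_range.2 (by rwa [sys_k] at hj)) hlt⟩
  constructor
  · intro h
    have h' : sys.ptW zWord q = q := (π_el zWord q).symm.trans (congrArg Fin.val h)
    obtain ⟨i, hi⟩ := (wBits_iff q).1 (by
      rw [e, Bool.not_eq_true', ← Bool.not_eq_true]
      exact fun hb => hm.1 hb h')
    exact ⟨i, Fin.ext hi⟩
  · rintro ⟨i, rfl⟩
    have h : wBits.testBit (wpt i : ℕ) = true := (wBits_iff _).2 ⟨i, rfl⟩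
    rw [e, Bool.not_eq_true'] at h
    refine π_el_eq ?_
    by_contra hne
    rw [hm.2 hne] at h
    exact Bool.noConfusion h

theorem commute_z0_tp (i : Fin 504) : Commute z0 (T.tp (wpt i)) :=
  (T.commute_tp_iff _ _).2 ((z0_fix_iff _).2 ⟨i, rfl⟩)

/-- the centraliser of the product -/
noncomputable def E : Subgroup Cfsg.Spor.Fi24 := Subgroup.centralizer {z0}

theorem mem_E {g : Cfsg.Spor.Fi24} : g ∈ E ↔ g * z0 = z0 * g := Subgroup.mem_centralizer_singleton_iff

theorem tp_mem_E (i : Fin 504) : T.tp (wpt i) ∈ E := mem_E.2 (commute_z0_tp i).eq.symm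

theorem exists_image (g : E) (i : Fin 504) : ∃ k, wpt k = π (g : Cfsg.Spor.Fi24) (wpt i) := by
  refine (z0_fix_iff _).1 ?_
  rw [← Equiv.Perm.mul_apply, ← map_mul, ← mem_E.1 g.2, map_mul, Equiv.Perm.mul_apply,
    (z0_fix_iff _).2 ⟨i, rfl⟩]

/-- an element of the centraliser on the indices -/
noncomputable def resPerm (g : E) : Equiv.Perm (Fin 504) :=
  Equiv.ofBijective (fun i => (exists_image g i).choose) (by
    refine Finite.injective_iff_bijective.1 fun i j h => wpt_injective ?_
    refine (π (g : Cfsg.Spor.Fi24)).injective ?_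
    rw [← (exists_image g i).choose_spec, ← (exists_image g j).choose_spec]
    exact congrArg wpt h)

theorem resPerm_spec (g : E) (i : Fin 504) : wpt (resPerm g i) = π (g : Cfsg.Spor.Fi24) (wpt i) :=
  (exists_image g i).choose_spec

/-- the action on the fixed points of the product -/
noncomputable def ρ : E →* Equiv.Perm (Fin 504) :=
  MonoidHom.mk' resPerm fun a b => Equiv.ext fun i => wpt_injective (by
    rw [Equiv.Perm.mul_apply, resPerm_spec, resPerm_spec, resPerm_spec, Subgroup.coe_mul, map_mul,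
      Equiv.Perm.mul_apply])

theorem ρ_spec (g : E) (i : Fin 504) : wpt (ρ g i) = π (g : Cfsg.Spor.Fi24) (wpt i) := resPerm_spec g i

theorem commutator_iff (g : Cfsg.Spor.Fi24) : g ∈ commutator Cfsg.Spor.Fi24 ↔ parity g = 1 := by
  haveI := finite_Fi24
  have hle : commutator Cfsg.Spor.Fi24 ≤ parity.ker := Abelianization.commutator_subset_ker parity
  have hne : parity.ker ≠ ⊤ := fun h => by
    have : gen (.l : Fi24.Gen) ∈ parity.ker := h ▸ Subgroup.mem_top _
    rw [MonoidHom.mem_ker, parity_gen] at this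
    exact absurd this (by decide)
  have hidx : parity.ker.index = 2 := by
    have h2 := Subgroup.index_dvd_of_le hle
    rw [index_commutator] at h2
    rcases (Nat.dvd_prime Nat.prime_two).1 h2 with h | h
    · exact absurd (Subgroup.index_eq_one.1 h) hne
    · exact h
  have heq : commutator Cfsg.Spor.Fi24 = parity.ker := by
    refine Subgroup.eq_of_le_of_card_ge hle ?_
    have a := (commutator Cfsg.Spor.Fi24).card_mul_index
    have b := parity.ker.card_mul_index
    rw [index_commutator] at a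
    rw [hidx] at b
    omega
  rw [heq, MonoidHom.mem_ker]

theorem parity_el : ∀ w : List ℕ, (∀ k ∈ w, k < 12) → parity (el w) = (-1) ^ w.length
  | [], _ => by simp [el]
  | x :: w, h => by
    have hx : x < 12 := h x (List.mem_cons_self ..)
    rw [el, map_mul, parity_el w fun k hk => h k (List.mem_cons_of_mem _ hk), List.length_cons, pow_succ,
      letter, if_pos hx, parity_gen]

/-- the centraliser of the product inside the commutator subgroup -/
noncomputable def C0 : Subgroup Cfsg.Spor.Fi24 := commutator Cfsg.Spor.Fi24 ⊓ Subgroup.centralizer {z0}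

theorem C0_le : C0 ≤ E := inf_le_right

/-- the action of `C0` -/
noncomputable def ρC : C0 →* Equiv.Perm (Fin 504) := ρ.comp (Subgroup.inclusion C0_le)

theorem ρC_spec (g : C0) (i : Fin 504) : wpt (ρC g i) = π (g : Cfsg.Spor.Fi24) (wpt i) := ρ_spec _ i

theorem el_mem_of_agree {w : List ℕ} (h : agree (w ++ zWord) (zWord ++ w) = true) : el w ∈ E := by
  have e := el_eq_of_agree h
  rw [el_append, el_append] at e
  exact mem_E.2 e.symm

theorem member_mem {path : List ℕ} {q : ℕ} (hq : q < 306936) (hp : sys.ptW path q = 0)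
    (hz : sys.ptW zWord q = q) : el (tw path) ∈ E := by
  obtain ⟨i, hi⟩ := (z0_fix_iff ⟨q, hq⟩).1 (π_el_eq hz)
  rw [← tp_tw (p := ⟨q, hq⟩) hp, ← hi]
  exact tp_mem_E i

theorem short_ok : ∀ k ∈ [0, 1, 2, 3, 4, 8, 9, 10],
    agree (genWords.getD k [] ++ zWord) (zWord ++ genWords.getD k []) = true := by decide +kernel

theorem letter_ok : agree ([0] ++ zWord) (zWord ++ [0]) = true := by decide +kernel

/-- paths of the two further members -/
def pathP : List ℕ := [7, 6, 3, 4, 5, 10, 8, 7, 6, 5, 4, 3, 1, 2, 0, 1]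

/-- paths of the two further members -/
def pathR : List ℕ := [5, 10, 11, 3, 4, 5, 10, 6, 5, 4, 3, 2, 1]

theorem members_ok : sys.ptW pathP 363 = 0 ∧ sys.ptW zWord 363 = 363 ∧ sys.ptW pathR 55260 = 0 ∧
    sys.ptW zWord 55260 = 55260 := by decide +kernel

theorem gen_mem_E : ∀ k < 11, el (genWords.getD k []) ∈ E := by
  intro k hk
  obtain ⟨hP, hP', hR, hR'⟩ := members_ok
  have h0 := el_mem_of_agree letter_ok
  interval_cases k
  · exact el_mem_of_agree (short_ok 0 (by decide))
  · exact el_mem_of_agree (short_ok 1 (by decide))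
  · exact el_mem_of_agree (short_ok 2 (by decide))
  · exact el_mem_of_agree (short_ok 3 (by decide))
  · exact el_mem_of_agree (short_ok 4 (by decide))
  · rw [show genWords.getD 5 [] = [0] ++ tw pathP from by decide, el_append]
    exact mul_mem (member_mem (q := 363) (by norm_num) hP hP') h0
  · rw [show genWords.getD 6 [] = [0] ++ tw pathR from by decide, el_append]
    exact mul_mem (member_mem (q := 55260) (by norm_num) hR hR') h0
  · rw [show genWords.getD 7 [] = tw pathR ++ [0] from by decide, el_append]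
    exact mul_mem h0 (member_mem (q := 55260) (by norm_num) hR hR')
  · exact el_mem_of_agree (short_ok 8 (by decide))
  · exact el_mem_of_agree (short_ok 9 (by decide))
  · exact el_mem_of_agree (short_ok 10 (by decide))

theorem gen_shape : ∀ k < 11, (∀ x ∈ genWords.getD k [], x < 12) ∧
    (genWords.getD k []).length % 2 = 0 := by decide +kernel

theorem gen_mem_C0 (k : ℕ) (hk : k < 11) : el (genWords.getD k []) ∈ C0 := by
  obtain ⟨h1, h2⟩ := gen_shape k hk
  refine ⟨(commutator_iff _).2 ?_, gen_mem_E k hk⟩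
  rw [parity_el _ h1]
  exact (Nat.even_iff.2 h2).neg_one_pow

/-- the generators -/
noncomputable def gC (k : ℕ) : C0 := if h : k < 11 then ⟨_, gen_mem_C0 k h⟩ else 1

theorem bit_eq {P Q a b : ℕ} (h : Nat.land (Nat.shiftRight P a) 1 = Nat.land (Nat.shiftRight Q b) 1) :
    P.testBit a = Q.testBit b := by
  change (P >>> a) &&& 1 = (Q >>> b) &&& 1 at h
  rw [Nat.and_one_is_mod, Nat.and_one_is_mod, Nat.shiftRight_eq_div_pow, Nat.shiftRight_eq_div_pow] at h
  rw [Nat.testBit_eq_decide_div_mod_eq, Nat.testBit_eq_decide_div_mod_eq, h]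

theorem img_lt {k : ℕ} (hk : k < 11) {i : ℕ} (hi : i < 504) : big.img k i < 504 := by
  have h := img_ok k hk
  simp only [okImg, Bool.and_eq_true] at h
  exact Nat.blt_eq.mp (allBelow_spec h.2 i hi)

theorem gC_img {k : ℕ} (hk : k < 11) (i : Fin 504) : ((ρC (gC k) i : Fin 504) : ℕ) = big.img k i := by
  suffices h : ρC (gC k) i = ⟨big.img k i, img_lt hk i.2⟩ from congrArg Fin.val h
  refine wpt_injective ?_
  rw [ρC_spec, gC, dif_pos hk]
  refine Fin.ext ?_
  rw [π_el]
  show sys.ptW (genWords.getD k []) (wp i) = wp (big.img k i)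
  have ha : sys.ptW (genWords.getD k []) (wp i) < 2 ^ 19 :=
    lt_trans (ptW_lt _ (rank_spec.1 i i.2).1) (by norm_num)
  have hb : wp (big.img k i) < 2 ^ 19 :=
    lt_trans (rank_spec.1 _ (img_lt hk i.2)).1 (by norm_num)
  refine Nat.eq_of_testBit_eq fun j => ?_
  by_cases hj : j < 19
  · have h := img_ok k hk
    simp only [okImg, Bool.and_eq_true, List.all_eq_true] at h
    have h' := h.1 j (List.mem_range.2 hj)
    rw [okPlane, force_eq] at h'
    have e := bit_eq (Nat.eq_of_beq_eq_true (allBelow_spec h' i i.2))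
    rw [Sys.testBit_actW okNets, testBit_plane] at e
    rw [decide_eq_true ha, Bool.true_and] at e
    exact e
  · rw [Nat.testBit_lt_two_pow (lt_of_lt_of_le ha (Nat.pow_le_pow_right (by norm_num) (not_lt.1 hj))),
      Nat.testBit_lt_two_pow (lt_of_lt_of_le hb (Nat.pow_le_pow_right (by norm_num) (not_lt.1 hj)))]

/-- the permutation meaning of the tables -/
noncomputable def bigI : PermData.Interp big := ⟨fun k => ρC (gC k), fun _ hk i => gC_img hk i⟩

theorem grp_le : PermData.grp bigI ≤ ρC.range := by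
  rw [PermData.grp, Subgroup.closure_le]
  rintro _ ⟨k, -, rfl⟩
  exact ⟨gC k, rfl⟩

/-- every element of the table comes from `C0` -/
theorem big_elem {k : ℕ} (hk : k < 11 + bigWords.length) :
    ∃ c : C0, ∀ i : Fin 504, ((ρC c i : Fin 504) : ℕ) = big.img k i := by
  obtain ⟨σ, hσ, e⟩ := PermData.elem_exists bigI big_words_ok k hk
  obtain ⟨c, rfl⟩ := grp_le hσ
  exact ⟨c, e⟩

/-- every word in the table comes from `C0` -/
theorem big_app : ∀ w : List ℕ, (∀ k ∈ w, k < 11 + bigWords.length) →
    ∃ c : C0, ∀ i : Fin 504, ((ρC c i : Fin 504) : ℕ) = big.app w i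
  | [], _ => ⟨1, fun i => by rw [map_one]; rfl⟩
  | k :: w, h => by
    obtain ⟨a, ha⟩ := big_elem (h k (List.mem_cons_self ..))
    obtain ⟨b, hb⟩ := big_app w fun j hj => h j (List.mem_cons_of_mem _ hj)
    exact ⟨b * a, fun i => by rw [map_mul, Equiv.Perm.mul_apply, hb, ha]; rfl⟩

end CfsgLib.Spor.Fi24.QuadCent
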