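import Cfsg.Agent.Lib.Spor.Fi24Sym.Defs
import Cfsg.Agent.Lib.Spor.McLUnitary.Data
import Cfsg.Agent.Lib.Spor.Fi24.QuadCent.Data

/-!
The checks made on the tables for the centraliser of a product of four commuting transpositions.
-/

set_option autoImplicit false

namespace CfsgLib.Spor.Fi24.QuadCent

open CfsgLib.BitPerm CfsgLib.PresCert
open CfsgLib.Spor.Fi24 (sys)
open CfsgLib.Spor.Fi24Sym (minus allPlanes inSet incr fixesAll tw)

/-- the point with a given index -/
noncomputable def wp (i : Nat) : Nat := wTab.word i

/-- the word of the product of the base quad -/
def zWord : List Nat := [0, 2, 4, 6]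

/-- all points -/
noncomputable def full : Nat := Nat.sub (Nat.shiftLeft 1 306936) 1

/-- the listed points as a bit set -/
noncomputable def wBits : Nat :=
  (List.range 504).foldl (fun B i => Nat.lor B (Nat.shiftLeft 1 (wp i))) 0

/-- the fixed points of the product are the listed points -/
noncomputable def okW : Bool := Nat.beq (minus full (sys.movW zWord allPlanes)) wBits

/-- the listed points are distinct and below the degree -/
noncomputable def okRank : Bool :=
  (allBelow 504 fun i => Nat.blt (wp i) 306936 && Nat.blt (rankTab.half i) 504 &&
    Nat.beq (srtTab.half (rankTab.half i)) i) &&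
  allBelow 503 fun r => Nat.blt (wp (srtTab.half r)) (wp (srtTab.half (Nat.add r 1)))

/-- one plane of the images of the listed points under a generator -/
noncomputable def okPlane (k j : Nat) : Bool :=
  force (sys.actW (genWords.getD k []) (plane j 19)) fun P => allBelow 504 fun i =>
    Nat.beq (Nat.land (Nat.shiftRight P (wp i)) 1)
      (Nat.land (Nat.shiftRight (wp (big.img k i)) j) 1)

/-- the images of the listed points under a generator -/
noncomputable def okImg (k : Nat) : Bool :=
  (List.range 19).all (okPlane k) && allBelow 504 fun i => Nat.blt (big.img k i) 504

/-- the block action of the first eight generators -/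
noncomputable def okTop : Bool :=
  allBelow 8 fun k => allBelow 504 fun i =>
    Nat.beq (Nat.div (big.img k i) 4) (top.img k (Nat.div i 4))

/-- the block action of the generators of the subgroup -/
noncomputable def okSub : Bool :=
  allBelow 8 fun k => allBelow 504 fun i =>
    Nat.beq (Nat.div (big.img (subGens.getD k 0) i) 4) (sub.img k (Nat.div i 4))

/-- the kernel element respects every block -/
noncomputable def okX : Bool :=
  allBelow 504 fun i => Nat.beq (Nat.div (big.img 11 i) 4) (Nat.div i 4)

/-- the tables of the conjugates -/
noncomputable def okConj : Bool :=
  allBelow 12 fun t => allBelow 504 fun i =>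
    Nat.beq (ker.img t (big.app (qConj.getD t []) i))
        (big.app (qConj.getD t []) (big.img (qBases.getD t 0) i)) &&
      Nat.beq (quot.img t i) (ker.img t i)

/-- the table of the kernel element among the others -/
noncomputable def okLast : Bool := allBelow 504 fun i => Nat.beq (ker.img 12 i) (big.img 11 i)

/-- in the first block the three pairs act as translations -/
noncomputable def okBases : Bool :=
  allBelow 3 fun b => allBelow 504 fun i =>
    let r := Nat.add (Nat.mul (Nat.div i 4) 4) 0
    let v := Nat.sub (big.img (Nat.add 8 b) r) r
    Nat.blt v 4 && Nat.beq (big.img (Nat.add 8 b) i) (Nat.add r (Nat.xor (Nat.mod i 4) v))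

/-- a generator of the subgroup commutes with the kernel element up to translations -/
noncomputable def okFlip (k : Nat) : Bool :=
  allBelow 504 fun i =>
    let g := subGens.getD k 0
    let p := big.img 11 (big.img g i)
    let v := flipTab.half (Nat.add (Nat.mul k 126) (Nat.div p 4))
    Nat.blt v 4 &&
      Nat.beq (big.img g (big.img 11 i)) (Nat.add (Nat.mul (Nat.div p 4) 4) (Nat.xor (Nat.mod p 4) v))

/-- the objects are carried to each other by the two generators of the model -/
noncomputable def okObj : Bool :=
  allBelow 2 fun t => allBelow 112 fun i => allBelow 126 fun j =>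
    let s := objMasks.getD i 0
    let u := objMasks.getD ((if Nat.beq t 0 then McLUnitary.permA else McLUnitary.permB).getD i 0) 0
    Nat.beq (Nat.land (Nat.shiftRight u (sub.img (subPair.getD t 0) j)) 1)
      (Nat.land (Nat.shiftRight s j) 1)

/-- the stabiliser of the first block fixes no other block -/
noncomputable def okStab : Bool :=
  (subStab.all fun k => Nat.blt k (Nat.add sub.g sub.words.length) && Nat.beq (sub.img k 0) 0) &&
  allBelow 126 fun j => Nat.beq j 0 || subStab.any fun k => !Nat.beq (sub.img k j) j

/-- the points fixed by the transpositions at 0 and 1, other than these -/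
noncomputable def setA : Nat :=
  minus (minus full (Nat.lor (sys.movW [0] allPlanes) (sys.movW [2] allPlanes))) 3

/-- the points fixed by the transpositions at 0, 1 and 5, other than these -/
noncomputable def setC : Nat :=
  minus (minus full (Nat.lor (Nat.lor (sys.movW [0] allPlanes) (sys.movW [2] allPlanes))
    (sys.movW [4] allPlanes))) (Nat.lor 3 (Nat.shiftLeft 1 5))

/-- the steps for the orbit on `setA` -/
def stepsA : List (List Nat) := orbASeq.map fun k => orbAWords.getD k []

/-- the steps for the orbit on `setC` -/
def stepsC : List (List Nat) := orbCSeq.map fun k => orbCWords.getD k []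

end CfsgLib.Spor.Fi24.QuadCent
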