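import Cfsg.Agent.Lib.Spor.Fi24.QuadCent.Sub
import Cfsg.Agent.Lib.ThreeTransp.LargeFitting

/-!
The centraliser of the product of four commuting transpositions in the commutator subgroup of Fi24:
2^(1+12) extended by 3.PSU(4,3).2.
-/

set_option autoImplicit false
set_option maxRecDepth 100000

namespace CfsgLib.Spor.Fi24.QuadCent

open Cfsg.Spor
open CfsgLib.Spor.Fi24 (finite_Fi24)

local instance : Finite Cfsg.Spor.Fi24 := finite_Fi24

local instance : Fact (Nat.Prime 3) := ⟨Nat.prime_three⟩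

noncomputable local instance : Fintype F9 := Fintype.ofFinite _

/-- the structure of the centraliser -/
def Shape (C : Type*) [Group C] : Prop :=
  ∃ (Q : Subgroup C) (_ : Q.Normal), Cfsg.generalizedFittingSubgroup C = Q ∧ Cfsg.IsExtraspecial 2 ↥Q ∧
    Nat.card Q = 2 ^ 13 ∧ ∃ (N M : Subgroup C) (_ : N.Normal) (_ : M.Normal), Q ≤ N ∧ N ≤ M ∧
      Nat.card N = 3 * Nat.card Q ∧ (∃ (K : Type) (_ : Field K) (_ : Fintype K), Fintype.card K = 9 ∧
        Nonempty (↥M ⧸ N.subgroupOf M ≃* Cfsg.PSU 4 K 3)) ∧ M.index = 2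

theorem fstar_C0 : Cfsg.generalizedFittingSubgroup C0 = Q := by
  haveI : Fact (Nat.Prime 2) := ⟨Nat.prime_two⟩
  refine CfsgLib.ThreeTransp.fstar_eq_of_quotient Q (IsPGroup.of_card card_Q) (fun c hc => ?_)
    (MulEquiv.refl (C0 ⧸ Q)) fun P hP h2 => ?_
  · rcases centralises_Q (c := c) fun y hy => (Subgroup.mem_centralizer_iff.1 hc y hy).symm with rfl | rfl
    exacts [one_mem _, zC_Q]
  · let P' : Subgroup C0 := P.comap (QuotientGroup.mk' Q)
    haveI : P'.Normal := hP.comap _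
    have hp2 : IsPGroup 2 P' := h2.comap_of_ker_isPGroup _ (by
      rw [QuotientGroup.ker_mk']; exact IsPGroup.of_card card_Q)
    haveI : (P'.map θC.rangeRestrict).Normal :=
      (inferInstance : P'.Normal).map _ θC.rangeRestrict_surjective
    have hb := normal_two_range (P'.map θC.rangeRestrict) (hp2.map _)
    rw [Subgroup.map_eq_bot_iff, MonoidHom.ker_rangeRestrict] at hb
    have hcard : Nat.card P' ≤ 2 ^ 13 := by
      obtain ⟨k, hk⟩ := IsPGroup.iff_card.1 hp2
      have hd := Subgroup.card_dvd_of_le hb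
      rw [hk, orders.2.2.1, show (24576 : ℕ) = 2 ^ 13 * 3 by norm_num] at hd
      rw [hk]
      exact Nat.le_of_dvd (by norm_num)
        ((Nat.Coprime.pow_left k (by norm_num : Nat.Coprime 2 3)).dvd_of_dvd_mul_right hd)
    have hQ : Q ≤ P' := fun q hq => by
      show (q : C0 ⧸ Q) ∈ P
      rw [(QuotientGroup.eq_one_iff q).2 hq]; exact one_mem _
    have e : Q = P' := Subgroup.eq_of_le_of_card_ge hQ (by rw [card_Q]; exact hcard)
    rw [eq_bot_iff]
    intro x hx
    obtain ⟨c, rfl⟩ := QuotientGroup.mk_surjective x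
    exact Subgroup.mem_bot.2 ((QuotientGroup.eq_one_iff c).2 (e ▸ hx))

theorem shape_C0 : Shape ↥C0 := by
  refine ⟨Q, Q_normal, fstar_C0, Q_extraspecial, card_Q, θC.ker, U.comap θC, inferInstance, ?_, Q_le_ker,
    MonoidHom.ker_le_comap _ _, ?_, ?_, ?_⟩
  · exact Subgroup.normal_of_index_eq_two (by rw [Subgroup.index_comap, U_index])
  · rw [card_Q, orders.2.2.1]; norm_num
  · refine ⟨F9, inferInstance, inferInstance, ?_, ?_⟩
    · rw [← Nat.card_eq_fintype_card, GaloisField.card 3 2 (by norm_num)]; norm_num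
    obtain ⟨e⟩ := U_psu
    let ψ : (U.comap θC) →* U := θC.subgroupComap U
    have hs : Function.Surjective ψ := fun u => by
      obtain ⟨c, hc⟩ := U_le_range u.2
      exact ⟨⟨c, show θC c ∈ U from hc ▸ u.2⟩, Subtype.ext hc⟩
    have hk : ψ.ker = θC.ker.subgroupOf (U.comap θC) := by
      ext c
      exact ⟨fun h => congrArg Subtype.val (MonoidHom.mem_ker.1 h), fun h => Subtype.ext h⟩
    exact ⟨(QuotientGroup.quotientMulEquivOfEq hk.symm).trans
      ((QuotientGroup.quotientKerEquivOfSurjective ψ hs).trans e)⟩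
  · rw [Subgroup.index_comap, U_index]

theorem shape_congr {A B : Type*} [Group A] [Group B] (e : A ≃* B) (h : Shape A) : Shape B := by
  obtain ⟨Q, hQ, hF, hX, hc, N, M, hN, hM, hQN, hNM, hNc, ⟨K, iK, fK, hK, ⟨f⟩⟩, hi⟩ := h
  have hs : Function.Surjective e.toMonoidHom := e.surjective
  have hcard : ∀ H : Subgroup A, Nat.card (H.map e.toMonoidHom) = Nat.card H := fun H =>
    (Nat.card_congr (H.equivMapOfInjective e.toMonoidHom e.injective).toEquiv).symm
  refine ⟨Q.map e.toMonoidHom, hQ.map _ hs, ?_,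
    CfsgLib.ThreeTransp.extraspecial_equiv (Q.equivMapOfInjective e.toMonoidHom e.injective) hX, ?_,
    N.map e.toMonoidHom, M.map e.toMonoidHom, hN.map _ hs, hM.map _ hs, Subgroup.map_mono hQN,
    Subgroup.map_mono hNM, ?_, ⟨K, iK, fK, hK, ⟨?_⟩⟩, ?_⟩
  · rw [← CfsgLib.Components.fstar_map_equiv e, hF]
  · rw [hcard, hc]
  · rw [hcard, hcard, hNc]
  · haveI := hN
    haveI : (N.map e.toMonoidHom).Normal := hN.map _ hs
    refine ((QuotientGroup.congr (N.subgroupOf M) ((N.map e.toMonoidHom).subgroupOf (M.map e.toMonoidHom))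
      (M.equivMapOfInjective e.toMonoidHom e.injective) ?_).symm).trans f
    ext ⟨y, hy⟩
    constructor
    · rintro ⟨⟨x, hx⟩, hxN, e'⟩
      exact ⟨x, hxN, congrArg Subtype.val e'⟩
    · rintro ⟨x, hxN, e'⟩
      exact ⟨⟨x, hNM hxN⟩, hxN, Subtype.ext e'⟩
  · rw [Subgroup.index_map_of_bijective e.bijective, hi]

theorem shape_of_quad {G : Type*} [Group G] {D : Set G} (e : G ≃* Cfsg.Spor.Fi24)
    (he : e '' D = conjugatesOf (CfsgLib.Spor.Fi24.gen (.l : Fi24.Gen))) {z : G} {l : List G}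
    (hl : l.Nodup ∧ l.length = 4 ∧ (∀ a ∈ l, a ∈ D) ∧ (∀ a ∈ l, ∀ b ∈ l, Commute a b) ∧ l.prod = z) :
    Shape ↥(commutator G ⊓ Subgroup.centralizer ({z} : Set G)) := by
  obtain ⟨hnd, hlen, hD, hc, hp⟩ := hl
  obtain ⟨a, b, c, d, rfl⟩ : ∃ a b c d, l = [a, b, c, d] := by
    match l, hlen with
    | [a, b, c, d], _ => exact ⟨a, b, c, d, rfl⟩
  have hmem : ∀ i : Fin 4, [a, b, c, d].getD (i : ℕ) 1 ∈ [a, b, c, d] := by
    intro i; fin_cases i <;> simp
  have hpt : ∀ i : Fin 4, ∃ q, CfsgLib.Spor.Fi24Sym.T.tp q = e ([a, b, c, d].getD (i : ℕ) 1) := fun i => by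
    have : e ([a, b, c, d].getD (i : ℕ) 1) ∈ conjugatesOf (CfsgLib.Spor.Fi24.gen (.l : Fi24.Gen)) :=
      he ▸ ⟨_, hD _ (hmem i), rfl⟩
    exact (CfsgLib.Spor.Fi24Sym.T.range_tp.symm ▸ this :)
  choose p hp' using hpt
  have hinj : Function.Injective p := fun i k h => by
    have h' := e.injective ((hp' i).symm.trans (h ▸ hp' k))
    rw [List.getD_eq_getElem _ _ (by simp), List.getD_eq_getElem _ _ (by simp), hnd.getElem_inj_iff] at h'
    exact Fin.ext h'
  obtain ⟨g, hg⟩ := quad_conj p hinj fun i k => by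
    show Commute _ _
    rw [hp', hp']
    exact (hc _ (hmem i) _ (hmem k)).map e.toMonoidHom
  let f : G ≃* Cfsg.Spor.Fi24 := e.trans (MulAut.conj g⁻¹)
  have hf : ∀ i : Fin 4, f ([a, b, c, d].getD (i : ℕ) 1) = tw504 (cell 0 i) := fun i => by
    show g⁻¹ * e _ * g⁻¹⁻¹ = _
    rw [← hp', CfsgLib.Spor.Fi24Sym.T.conj_tp, ← hg]
    show CfsgLib.Spor.Fi24Sym.T.tp _ = CfsgLib.Spor.Fi24Sym.T.tp _
    rw [wpt_zero, show CfsgLib.Spor.Fi24Sym.T.π g⁻¹ = (CfsgLib.Spor.Fi24.π g)⁻¹ from map_inv _ _]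
    exact congrArg _ ((CfsgLib.Spor.Fi24.π g).symm_apply_apply _)
  have hz : f z = z0 := by
    have h := bl_zero.2.2.2.2
    rw [bl, show List.finRange 4 = [0, 1, 2, 3] by decide] at h
    simp only [List.map_cons, List.map_nil, ← hf] at h
    rw [← h, ← hp, map_list_prod]
    rfl
  have hmap : (commutator G ⊓ Subgroup.centralizer ({z} : Set G)).map f.toMonoidHom = C0 := by
    rw [C0, Subgroup.map_inf _ _ _ f.injective]
    congr 1
    · rw [commutator_def, Subgroup.map_commutator, Subgroup.map_top_of_surjective _ f.surjective, ← commutator_def]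
    · ext x
      simp only [Subgroup.mem_map_equiv, Subgroup.mem_centralizer_singleton_iff, ← hz]
      constructor
      · intro h; simpa using congrArg f h
      · intro h; exact f.injective (by simpa using h)
  exact shape_congr
    (((commutator G ⊓ Subgroup.centralizer ({z} : Set G)).equivMapOfInjective f.toMonoidHom f.injective).trans
      (MulEquiv.subgroupCongr hmap)).symm shape_C0

end CfsgLib.Spor.Fi24.QuadCent
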