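import Cfsg.Agent.Lib.Spor.Fi24.QuadCent.Blocks
import Cfsg.Agent.Lib.ThreeTransp.LargeQuotient

/-!
The centraliser of the product in the commutator subgroup: its order, the normal subgroup generated by the
products of two transpositions of one block, and the kernel of the action on the blocks.
-/

set_option autoImplicit false
set_option maxRecDepth 100000

namespace CfsgLib.Spor.Fi24.QuadCent

open CfsgLib.BitPerm CfsgLib.PresCert Cfsg.Spor CfsgLib.ThreeTransp
open CfsgLib.Spor.Fi24 (sys π gen gen_sq parity parity_gen finite_Fi24)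
open CfsgLib.Spor.Fi24Sym (T el π_el letter π_el_eq)

attribute [local irreducible] sys

local instance : Finite Cfsg.Spor.Fi24 := finite_Fi24

theorem card_map_mul {A B : Type*} [Group A] [Group B] (f : A →* B) (K : Subgroup A) (h : f.ker ≤ K) :
    Nat.card (K.map f) * Nat.card f.ker = Nat.card K := by
  have h1 := (f.ker.subgroupOf K).index_mul_card
  rw [Nat.card_congr (Subgroup.subgroupOfEquivOfLe h).toEquiv,
    show (f.ker.subgroupOf K).index = f.ker.relIndex K from rfl, Subgroup.relIndex_ker] at h1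
  exact h1

/-- the action of `C0` on the blocks -/
noncomputable def θC : C0 →* Equiv.Perm (Fin 126) := θ.comp (Subgroup.inclusion C0_le)

theorem θC_spec (c : C0) (i : Fin 504) : blk (ρC c i) = θC c (blk i) := θ_spec _ i

theorem θC_gC {k : ℕ} (hk : k < 8) (j : Fin 126) : ((θC (gC k) j : Fin 126) : ℕ) = top.img k j := by
  rw [← gC_block hk j, ← blk_cell j 0]
  exact congrArg Fin.val ((θC_spec (gC k) (cell j 0)).symm.trans (blockHom_spec ⟨_, gC_pres hk⟩ (cell j 0)))

theorem card_θC_ge : 6531840 ≤ Nat.card θC.range := by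
  refine le_trans (le_of_eq ?_) (PermData.le_card_of_hom (D := top) θC.range (MonoidHom.id _)
    (fun k hk => ⟨θC (gC k), ⟨gC k, rfl⟩, fun j => θC_gC hk j⟩) top_words_ok topLevels top_levels_ok)
  decide +kernel

theorem card_C0_le : Nat.card C0 ≤ 160526499840 := by
  have hl : gen (.l : Fi24.Gen) ∈ E := by
    have h := el_mem_of_agree letter_ok
    rw [show el [0] = gen (.l : Fi24.Gen) by simp [el, letter]; rfl] at h
    exact h
  let f : E →* ℤˣ := parity.comp E.subtype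
  have hker : Nat.card f.ker = Nat.card C0 := Nat.card_congr
    { toFun := fun g => ⟨g.1.1, ⟨(commutator_iff _).2 g.2, g.1.2⟩⟩
      invFun := fun g => ⟨⟨g.1, g.2.2⟩, (commutator_iff _).1 g.2.1⟩
      left_inv := fun _ => rfl
      right_inv := fun _ => rfl }
  have hr : Nat.card f.range = 2 := by
    have : f.range = ⊤ := by
      rw [eq_top_iff]
      intro u _
      rcases Int.units_eq_one_or u with rfl | rfl
      · exact one_mem _
      · exact ⟨⟨_, hl⟩, parity_gen _⟩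
    rw [this, Subgroup.card_top]
    simp [Nat.card_eq_fintype_card]
  have h := card_map_mul f ⊤ le_top
  rw [← MonoidHom.range_eq_map, hr, hker, Subgroup.card_top] at h
  have := card_E_le
  omega

theorem cell_surj {c : C0} {j : Fin 126} (hc : ∀ a, ∃ b, ρC c (cell 0 a) = cell j b) (b : Fin 4) :
    ∃ a, ρC c (cell 0 a) = cell j b := by
  choose f hf using hc
  obtain ⟨a, rfl⟩ := Finite.injective_iff_surjective.1 (show Function.Injective f from fun x y e =>
    (cell_inj ((ρC c).injective ((hf x).trans (by rw [e, hf y])))).2) b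
  exact ⟨a, hf a⟩

/-- products of two transpositions of a block -/
def pairSet : Set C0 :=
  {y | ∃ j a b, (y : Cfsg.Spor.Fi24) = tw504 (cell j a) * tw504 (cell j b)}

/-- the normal subgroup of order 2^13 -/
noncomputable def Q : Subgroup C0 := Subgroup.closure pairSet

theorem parity_tp (q : Fin 306936) : parity (T.tp q) = -1 := by
  obtain ⟨g, hg⟩ := isConj_iff.1 (show IsConj (gen (.l : Fi24.Gen)) (T.tp q) from tp_mem q)
  rw [← hg, map_mul, map_mul, parity_gen, map_inv, mul_right_comm, mul_inv_cancel, one_mul]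

theorem pair_mem (i k : Fin 504) : tw504 i * tw504 k ∈ C0 :=
  ⟨(commutator_iff _).2 (by rw [map_mul, tw504, tw504, parity_tp, parity_tp, neg_one_mul, neg_neg]),
    mul_mem (tp_mem_E i) (tp_mem_E k)⟩

theorem pair_Q (j : Fin 126) (a b : Fin 4) :
    (⟨_, pair_mem (cell j a) (cell j b)⟩ : C0) ∈ Q := Subgroup.subset_closure ⟨j, a, b, rfl⟩

theorem conj_tw (c : C0) (i : Fin 504) :
    (c : Cfsg.Spor.Fi24) * tw504 i * (c : Cfsg.Spor.Fi24)⁻¹ = tw504 (ρC c i) :=
  conj_tw504 (Subgroup.inclusion C0_le c) i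

theorem conj_pairSet {y : C0} (hy : y ∈ pairSet) (c : C0) : c * y * c⁻¹ ∈ pairSet := by
  obtain ⟨j, a, b, e⟩ := hy
  refine ⟨θC c j, loc (ρC c (cell j a)), loc (ρC c (cell j b)), ?_⟩
  have h : ∀ x, cell (θC c j) (loc (ρC c (cell j x))) = ρC c (cell j x) := fun x => by
    conv_rhs => rw [← cell_eta (ρC c (cell j x)), θC_spec, blk_cell]
  rw [h, h, ← conj_tw, ← conj_tw, Subgroup.coe_mul, Subgroup.coe_mul, Subgroup.coe_inv, e]
  group

instance Q_normal : Q.Normal where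
  conj_mem y hy c := by
    induction hy using Subgroup.closure_induction with
    | mem v hv => exact Subgroup.subset_closure (conj_pairSet hv c)
    | one => rw [mul_one, mul_inv_cancel]; exact one_mem _
    | mul u v _ _ hu hv =>
      rw [show c * (u * v) * c⁻¹ = (c * u * c⁻¹) * (c * v * c⁻¹) by group]
      exact mul_mem hu hv
    | inv u _ hu =>
      rw [show c * u⁻¹ * c⁻¹ = (c * u * c⁻¹)⁻¹ by group]
      exact inv_mem hu

theorem nat_xor_eq : ∀ a v : Fin 4, (xr a v : ℕ) = Nat.xor a v := by decide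

theorem base_trl {t : ℕ} (ht : t < 3) : ρC (gC (8 + t)) ∈ trl := by
  intro j
  have h := fun i : Fin 504 => allBelow_spec (allBelow_spec bases_ok t ht) i i.2
  simp only [Bool.and_eq_true, Nat.blt_eq, Nat.beq_eq] at h
  have hr : ∀ a, Nat.mul (Nat.div (cell j a : ℕ) 4) 4 = 4 * (j : ℕ) ∧ Nat.mod (cell j a : ℕ) 4 = a := fun a =>
    ⟨by show (4 * (j : ℕ) + a) / 4 * 4 = _; omega, by show (4 * (j : ℕ) + a) % 4 = _; omega⟩
  set v := big.img (8 + t) (4 * (j : ℕ)) - 4 * (j : ℕ) with hv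
  have hv4 : v < 4 := by
    have := (h (cell j 0)).1
    rw [(hr 0).1] at this
    simpa [hv] using this
  refine ⟨⟨v, hv4⟩, fun a => Fin.ext ?_⟩
  rw [gC_img (by omega)]
  have := (h (cell j a)).2
  rw [(hr a).1, (hr a).2] at this
  rw [show (cell j (xr a ⟨v, hv4⟩) : ℕ) = 4 * (j : ℕ) + (xr a ⟨v, hv4⟩ : ℕ) from rfl, nat_xor_eq]
  simpa [hv] using this

theorem base_pair {t : ℕ} (ht : t < 3) :
    ((gC (8 + t) : C0) : Cfsg.Spor.Fi24) = tw504 (cell 0 ⟨t + 1, by omega⟩) * tw504 (cell 0 0) := by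
  obtain ⟨h0, h1, h2, h3⟩ := tp_qpt
  have e : ∀ a, tw504 (cell 0 a) = T.tp (qpt a) := fun a => congrArg T.tp (wpt_zero a)
  rw [e, e, gC, dif_pos (show 8 + t < 11 by omega)]
  show el _ = _
  interval_cases t
  · rw [show (⟨0 + 1, _⟩ : Fin 4) = 1 from rfl, h0, h1, show genWords.getD (8 + 0) [] = [0, 2] from rfl]
    simp [el, letter]; rfl
  · rw [show (⟨1 + 1, _⟩ : Fin 4) = 2 from rfl, h0, h2, show genWords.getD (8 + 1) [] = [0, 4] from rfl]
    simp [el, letter]; rfl
  · rw [show (⟨2 + 1, _⟩ : Fin 4) = 3 from rfl, h0, h3, show genWords.getD (8 + 2) [] = [0, 6] from rfl]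
    simp [el, letter]; rfl

theorem base_mem_Q {t : ℕ} (ht : t < 3) : gC (8 + t) ∈ Q :=
  Subgroup.subset_closure ⟨0, ⟨t + 1, by omega⟩, 0, base_pair ht⟩

theorem pair_zero_trl (a b : Fin 4) : ρC ⟨_, pair_mem (cell 0 a) (cell 0 b)⟩ ∈ trl := by
  have hone : ∀ a, ρC ⟨_, pair_mem (cell 0 a) (cell 0 0)⟩ ∈ trl := by
    intro a
    by_cases ha : a = 0
    · subst ha
      rw [show (⟨_, pair_mem (cell 0 0) (cell 0 0)⟩ : C0) = 1 from Subtype.ext (tp_sq _), map_one]
      exact one_mem _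
    obtain ⟨t, ht, rfl⟩ : ∃ (t : ℕ) (h : t < 3), a = ⟨t + 1, by omega⟩ := by
      refine ⟨(a : ℕ) - 1, by omega, Fin.ext ?_⟩
      have : (a : ℕ) ≠ 0 := fun h => ha (Fin.ext h)
      show (a : ℕ) = (a : ℕ) - 1 + 1
      omega
    rw [show (⟨_, pair_mem (cell 0 ⟨t + 1, by omega⟩) (cell 0 0)⟩ : C0) = gC (8 + t) from
      Subtype.ext (base_pair ht).symm]
    exact base_trl ht
  have hb : (⟨_, pair_mem (cell 0 a) (cell 0 b)⟩ : C0) = ⟨_, pair_mem (cell 0 a) (cell 0 0)⟩ *
      ⟨_, pair_mem (cell 0 b) (cell 0 0)⟩ := Subtype.ext (by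
    have hc : Commute (tw504 (cell 0 b)) (tw504 (cell 0 0)) :=
      bl_zero.2.2.2.1 _ (mem_bl.2 ⟨b, rfl⟩) _ (mem_bl.2 ⟨0, rfl⟩)
    show tw504 _ * tw504 _ = tw504 _ * tw504 _ * (tw504 _ * tw504 _)
    rw [hc.eq, mul_assoc, ← mul_assoc (tw504 (cell 0 0)) (tw504 (cell 0 0)), show
      tw504 (cell 0 0) * tw504 (cell 0 0) = 1 from tp_sq _, one_mul])
  rw [hb, map_mul]
  exact mul_mem (hone a) (hone b)

theorem ρC_pres (c : C0) : ρC c ∈ pres := ρ_mem_pres _

theorem Q_trl {y : C0} (hy : y ∈ Q) : ρC y ∈ trl := by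
  have : Q ≤ trl.comap ρC := by
    rw [Q, Subgroup.closure_le]
    rintro y ⟨j, a, b, e⟩
    obtain ⟨c, hc⟩ := exists_rep j
    obtain ⟨a', ha⟩ := cell_surj hc a
    obtain ⟨b', hb⟩ := cell_surj hc b
    have hy : y = c * ⟨_, pair_mem (cell 0 a') (cell 0 b')⟩ * c⁻¹ := Subtype.ext (by
      rw [e, ← ha, ← hb, ← conj_tw, ← conj_tw, Subgroup.coe_mul, Subgroup.coe_mul, Subgroup.coe_inv]
      group)
    show ρC y ∈ trl
    rw [hy, map_mul, map_mul, map_inv]
    exact trl_conj (ρC_pres c) (pair_zero_trl a' b')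
  exact this hy

theorem Q_le_ker : Q ≤ θC.ker := fun y hy => MonoidHom.mem_ker.2 (Equiv.ext fun j => by
  obtain ⟨v, hv⟩ := Q_trl hy j
  rw [← blk_cell j 0, ← θC_spec, hv, blk_cell, blk_cell]; rfl)

theorem ρ_ker_le : ρC.ker ≤ θC.ker := fun y hy => MonoidHom.mem_ker.2 (Equiv.ext fun j => by
  rw [← blk_cell j 0, ← θC_spec, MonoidHom.mem_ker.1 hy]; rfl)

/-- the product as an element of `C0` -/
noncomputable def zC : C0 :=
  ⟨_, pair_mem (cell 0 0) (cell 0 1)⟩ * ⟨_, pair_mem (cell 0 2) (cell 0 3)⟩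

theorem zC_val : (zC : Cfsg.Spor.Fi24) = z0 := by
  have h := bl_zero.2.2.2.2
  rw [bl, show List.finRange 4 = [0, 1, 2, 3] by decide] at h
  simpa [zC, mul_assoc] using h

theorem zC_Q : zC ∈ Q := mul_mem (pair_Q 0 0 1) (pair_Q 0 2 3)

theorem zC_ρ : zC ∈ ρC.ker := MonoidHom.mem_ker.2 (Equiv.ext fun i => wpt_injective (by
  rw [ρC_spec, zC_val, (z0_fix_iff _).2 ⟨i, rfl⟩]; rfl))

theorem zC_ne : zC ≠ 1 := fun h => by
  have e : (z0 : Cfsg.Spor.Fi24) = 1 := by rw [← zC_val, h]; rfl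
  have e2 := π_el zWord ⟨31673, by norm_num⟩
  rw [show el zWord = z0 from rfl, e, map_one] at e2
  have := zWord_moves
  rw [← e2] at this
  exact Bool.noConfusion this

theorem zC_sq : zC * zC = 1 := by
  obtain ⟨-, -, -, hc, hp⟩ := bl_zero
  refine Subtype.ext ?_
  rw [Subgroup.coe_mul, zC_val, ← hp, bl, show List.finRange 4 = [0, 1, 2, 3] by decide]
  have c : ∀ a b, Commute (tw504 (cell 0 a)) (tw504 (cell 0 b)) := fun a b =>
    hc _ (mem_bl.2 ⟨a, rfl⟩) _ (mem_bl.2 ⟨b, rfl⟩)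
  simp only [List.map_cons, List.map_nil, List.prod_cons, List.prod_nil, mul_one, ← pow_two]
  rw [((c 0 1).mul_right ((c 0 2).mul_right (c 0 3))).mul_pow, ((c 1 2).mul_right (c 1 3)).mul_pow,
    (c 2 3).mul_pow]
  simp [pow_two, tw504, tp_sq]

theorem zC_central (c : C0) : c * zC = zC * c := Subtype.ext (by
  rw [Subgroup.coe_mul, Subgroup.coe_mul, zC_val]
  exact mem_E.1 (C0_le c.2))

theorem conj_ok : (∀ t < 12, (∀ k ∈ qConj.getD t [], k < 11 + bigWords.length) ∧ 8 ≤ qBases.getD t 0 ∧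
    qBases.getD t 0 < 11) := by decide +kernel

theorem conj_elem {t : ℕ} (ht : t < 12) :
    ∃ y ∈ Q, ∀ i : Fin 504, ((ρC y i : Fin 504) : ℕ) = ker.img t i := by
  obtain ⟨h1, h2, h3⟩ := conj_ok t ht
  obtain ⟨u, hu⟩ := big_app _ h1
  obtain ⟨s, hs, hb⟩ : ∃ s < 3, qBases.getD t 0 = 8 + s := ⟨qBases.getD t 0 - 8, by omega, by omega⟩
  refine ⟨u * gC (8 + s) * u⁻¹, Q_normal.conj_mem _ (base_mem_Q hs) u, fun i => ?_⟩
  obtain ⟨k, rfl⟩ := (ρC u).surjective i
  have h := allBelow_spec (allBelow_spec conj_tab_ok t ht) k k.2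
  simp only [Bool.and_eq_true, Nat.beq_eq, hb] at h
  rw [map_mul, map_mul, map_inv, Equiv.Perm.mul_apply, Equiv.Perm.mul_apply, Equiv.Perm.inv_def,
    Equiv.symm_apply_apply, hu, gC_img (show 8 + s < 11 by omega), hu]
  exact h.1.symm

/-- the element of order three modulo `Q` -/
noncomputable def xC : C0 :=
  (big_elem (k := 11) (by decide)).choose

theorem xC_img (i : Fin 504) : ((ρC xC i : Fin 504) : ℕ) = big.img 11 i :=
  (big_elem (k := 11) (by decide)).choose_spec i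

theorem xC_ker : xC ∈ θC.ker := MonoidHom.mem_ker.2 (Equiv.ext fun j => Fin.ext (by
  have e := congrArg Fin.val (θC_spec xC (cell j 0))
  rw [blk_cell] at e
  rw [← e]
  show ((ρC xC (cell j 0) : Fin 504) : ℕ) / 4 = (j : ℕ)
  rw [xC_img]
  exact (Nat.eq_of_beq_eq_true (allBelow_spec x_ok _ (cell j 0).2)).trans
    (congrArg Fin.val (blk_cell j 0))))

/-- generators of the kernel of the action on the blocks -/
noncomputable def kerGrp : Subgroup C0 := Q ⊔ Subgroup.zpowers xC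

theorem kerGrp_le : kerGrp ≤ θC.ker := sup_le Q_le_ker (Subgroup.zpowers_le.2 xC_ker)

theorem ρ_gen_ge : 12288 ≤ Nat.card (kerGrp.map ρC) := by
  refine le_trans (le_of_eq ?_) (PermData.le_card_of_hom (D := ker) (kerGrp.map ρC) (MonoidHom.id _)
    (fun k hk => ?_) ker_words_ok kerLevels ker_levels_ok)
  · decide +kernel
  rcases Nat.lt_or_ge k 12 with h | h
  · obtain ⟨y, hy, e⟩ := conj_elem h
    exact ⟨ρC y, ⟨y, Subgroup.mem_sup_left hy, rfl⟩, e⟩
  · obtain rfl : k = 12 := by have : k < 13 := hk; omega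
    exact ⟨ρC xC, ⟨xC, Subgroup.mem_sup_right (Subgroup.mem_zpowers xC), rfl⟩, fun i => by
      rw [MonoidHom.id_apply, xC_img]
      exact (Nat.eq_of_beq_eq_true (allBelow_spec last_ok i i.2)).symm⟩

theorem ρ_image_ge : 12288 ≤ Nat.card (θC.ker.map ρC) :=
  ρ_gen_ge.trans (Nat.le_of_dvd Nat.card_pos (Subgroup.card_dvd_of_le (Subgroup.map_mono kerGrp_le)))

theorem ρ_Q_ge : 4096 ≤ Nat.card (Q.map ρC) := by
  refine le_trans (le_of_eq ?_) (PermData.le_card_of_hom (D := quot) (Q.map ρC) (MonoidHom.id _)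
    (fun k hk => ?_) quot_words_ok quotLevels quot_levels_ok)
  · decide +kernel
  obtain ⟨y, hy, e⟩ := conj_elem (t := k) hk
  refine ⟨ρC y, ⟨y, hy, rfl⟩, fun i => ?_⟩
  have h := allBelow_spec (allBelow_spec conj_tab_ok k hk) i i.2
  simp only [Bool.and_eq_true, Nat.beq_eq] at h
  rw [MonoidHom.id_apply, e, h.2]

theorem orders : Nat.card C0 = 160526499840 ∧ Nat.card θC.range = 6531840 ∧ Nat.card θC.ker = 24576 ∧
    Nat.card (θC.ker.map ρC) = 12288 ∧ Nat.card ρC.ker = 2 := by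
  have h1 := card_map_mul θC ⊤ le_top
  rw [← MonoidHom.range_eq_map, Subgroup.card_top] at h1
  have h2 := card_map_mul ρC θC.ker ρ_ker_le
  have hz : 2 ≤ Nat.card ρC.ker := by
    haveI : Nontrivial ρC.ker := ⟨⟨⟨zC, zC_ρ⟩, 1, fun e => zC_ne (congrArg Subtype.val e)⟩⟩
    exact Finite.one_lt_card
  have hb := ρ_image_ge
  have ha := card_θC_ge
  have hup := card_C0_le
  generalize Nat.card C0 = c at *
  generalize Nat.card θC.range = a at *
  generalize Nat.card θC.ker = k at *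
  generalize Nat.card (θC.ker.map ρC) = b at *
  generalize Nat.card ρC.ker = d at *
  subst h2
  subst h1
  have e1 : 12288 * 2 ≤ b * d := Nat.mul_le_mul hb hz
  have e2 : a * (b * d) ≥ a * (12288 * 2) := Nat.mul_le_mul_left a e1
  have ea : a = 6531840 := by omega
  subst ea
  have ebd : b * d = 24576 := by omega
  have eb : b * 2 ≤ b * d := Nat.mul_le_mul_left b hz
  have eb' : b = 12288 := by omega
  subst eb'
  exact ⟨by omega, rfl, by omega, rfl, by omega⟩

theorem mem_ρ_ker {c : C0} (h : c ∈ ρC.ker) : c = 1 ∨ c = zC := by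
  classical
  have hset : ({1, zC} : Set C0) = (ρC.ker : Set C0) := by
    refine Set.eq_of_subset_of_ncard_le ?_ ?_ (Set.toFinite _)
    · rintro y (rfl | rfl)
      exacts [one_mem _, zC_ρ]
    · rw [Set.ncard_pair zC_ne.symm, ← Nat.card_coe_set_eq]
      exact le_of_eq orders.2.2.2.2
  have : c ∈ ({1, zC} : Set C0) := by rw [hset]; exact h
  simpa using this

theorem ρ_ker_le_Q : ρC.ker ≤ Q := fun c hc => by
  rcases mem_ρ_ker hc with rfl | rfl
  exacts [one_mem _, zC_Q]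

theorem ker_eq : θC.ker = kerGrp := by
  refine (Subgroup.eq_of_le_of_card_ge kerGrp_le ?_).symm
  rw [orders.2.2.1, ← card_map_mul ρC kerGrp (ρ_ker_le_Q.trans le_sup_left), orders.2.2.2.2]
  have := ρ_gen_ge
  omega

theorem card_Q : Nat.card Q = 2 ^ 13 := by
  haveI : Fact (Nat.Prime 2) := ⟨Nat.prime_two⟩
  have h2 : IsPGroup 2 (Q.map ρC) := fun y => ⟨1, Subtype.ext (by
    obtain ⟨q, hq, e⟩ := y.2
    rw [pow_one, SubgroupClass.coe_pow, ← e, pow_two, OneMemClass.coe_one]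
    exact trl_sq (Q_trl hq))⟩
  obtain ⟨k, hk⟩ := IsPGroup.iff_card.1 h2
  have hd := Subgroup.card_dvd_of_le (Subgroup.map_mono (f := ρC) Q_le_ker)
  rw [hk, orders.2.2.2.1, show (12288 : ℕ) = 2 ^ 12 * 3 by norm_num] at hd
  have hle := Nat.le_of_dvd (by norm_num)
    ((Nat.Coprime.pow_left k (by norm_num : Nat.Coprime 2 3)).dvd_of_dvd_mul_right hd)
  have hge := ρ_Q_ge
  rw [hk] at hge
  have e : Nat.card (Q.map ρC) = 4096 := by rw [hk]; omega
  rw [← card_map_mul ρC Q ρ_ker_le_Q, e, orders.2.2.2.2]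
  norm_num

theorem centralises_ρ {c : C0} (h : ∀ y ∈ Q, c * y = y * c) : c ∈ ρC.ker := by
  refine MonoidHom.mem_ker.2 (Equiv.ext fun i => ?_)
  obtain ⟨j, a, rfl⟩ := exists_cell i
  have key : ∀ b, b ≠ a → ρC c (cell j a) = cell j a ∨ ρC c (cell j a) = cell j b := by
    intro b hb
    have hne : tw504 (cell j a) ≠ tw504 (cell j b) := fun e => hb (cell_inj (tw504_injective e)).2.symm
    have hc : Commute (tw504 (cell j a)) (tw504 (cell j b)) :=
      (bl_quad j).2.2.2.1 _ (mem_bl.2 ⟨a, rfl⟩) _ (mem_bl.2 ⟨b, rfl⟩)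
    obtain ⟨h2, -⟩ := tclass.pCores_central_of_primitive hprim
      ⟨_, tp_mem _, _, tp_mem _, hne, hc⟩
    have e := congrArg Subtype.val (mul_inv_eq_iff_eq_mul.2 (h _ (pair_Q j a b)))
    simp only [Subgroup.coe_mul, Subgroup.coe_inv] at e
    rw [show (c : Cfsg.Spor.Fi24) * (tw504 (cell j a) * tw504 (cell j b)) * (c : Cfsg.Spor.Fi24)⁻¹ =
      ((c : Cfsg.Spor.Fi24) * tw504 (cell j a) * (c : Cfsg.Spor.Fi24)⁻¹) *
        ((c : Cfsg.Spor.Fi24) * tw504 (cell j b) * (c : Cfsg.Spor.Fi24)⁻¹) by group, conj_tw, conj_tw] at e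
    rcases tclass.pair_unique h2 (tp_mem _) (tp_mem _) (tp_mem _) (tp_mem _) hne
      (fun e' => hne (congrArg tw504 ((ρC c).injective (tw504_injective e')))) hc
      (show Commute (tw504 (ρC c (cell j a))) (tw504 (ρC c (cell j b))) by
        rw [← conj_tw, ← conj_tw]; exact Commute.map hc (MulAut.conj (c : Cfsg.Spor.Fi24)).toMonoidHom)
      e.symm with ⟨h', -⟩ | ⟨h', -⟩
    · exact Or.inl (tw504_injective h')
    · exact Or.inr (tw504_injective h')
  obtain ⟨b, b', hb, hb', hbb⟩ :=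
    (show ∀ x : Fin 4, ∃ b b' : Fin 4, b ≠ x ∧ b' ≠ x ∧ b ≠ b' by decide) a
  rcases key b hb with e | e
  · exact e
  rcases key b' hb' with e' | e'
  · exact e'
  exact absurd (cell_inj (e.symm.trans e')).2 hbb

theorem centralises_Q {c : C0} (h : ∀ y ∈ Q, c * y = y * c) : c = 1 ∨ c = zC :=
  mem_ρ_ker (centralises_ρ h)

theorem Q_extraspecial : Cfsg.IsExtraspecial 2 ↥Q := by
  haveI : Fact (Nat.Prime 2) := ⟨Nat.prime_two⟩
  have hker : ∀ {w : C0}, ρC w = 1 → w = 1 ∨ w = zC := fun hw => mem_ρ_ker hw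
  refine (isExtraspecial_of Q (z := zC) (IsPGroup.of_card card_Q) zC_Q zC_ne zC_sq
    (fun e _ => zC_central e) (fun a ha b hb => hker ?_) (fun a ha => hker ?_)
    (fun d _ hd => centralises_Q fun y hy => (hd y hy).symm) ?_).1
  · rw [map_mul, map_mul, map_mul, map_inv, map_inv, trl_comm (Q_trl ha) (Q_trl hb), mul_inv_cancel_right,
      mul_inv_cancel]
  · rw [map_mul, trl_sq (Q_trl ha)]
  · by_contra hcon
    push Not at hcon
    have hsub : (Q : Set C0) ⊆ {1, zC} := fun q hq => by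
      rcases centralises_Q (c := q) fun y hy => hcon q hq y hy with h | h <;> simp [h]
    have h1 := Set.ncard_le_ncard hsub (Set.toFinite _)
    rw [← Nat.card_coe_set_eq, Set.ncard_pair zC_ne.symm] at h1
    have h2 : Nat.card Q = 2 ^ 13 := card_Q
    have h3 : Nat.card (Q : Set C0) = Nat.card Q := rfl
    omega

end CfsgLib.Spor.Fi24.QuadCent
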