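import Cfsg.Agent.Lib.Spor.Fi24.QuadCent.Orders
import Cfsg.Agent.Lib.Spor.McLUnitary.Unitary
import Cfsg.Agent.Lib.Classical.UnitarySimple

/-!
The subgroup of index two of the image on the blocks: it is PSU(4,3) and has trivial centraliser.
-/

set_option autoImplicit false
set_option maxRecDepth 100000

namespace CfsgLib.Spor.Fi24.QuadCent

open CfsgLib.PresCert Cfsg.Spor CfsgLib.Spor.McLUnitary
open scoped Pointwise
open CfsgLib.Spor.Fi24 (finite_Fi24)

local instance : Finite Cfsg.Spor.Fi24 := finite_Fi24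

/-- the elements centralising the kernel element up to translations -/
noncomputable def Sgrp : Subgroup C0 where
  carrier := {g | ρC g * ρC xC * (ρC g)⁻¹ * (ρC xC)⁻¹ ∈ trl}
  one_mem' := by
    show ρC 1 * ρC xC * (ρC 1)⁻¹ * (ρC xC)⁻¹ ∈ trl
    rw [map_one, one_mul, inv_one, mul_one, mul_inv_cancel]
    exact one_mem _
  mul_mem' := by
    intro g h hg hh
    show ρC (g * h) * ρC xC * (ρC (g * h))⁻¹ * (ρC xC)⁻¹ ∈ trl
    rw [map_mul, show ρC g * ρC h * ρC xC * (ρC g * ρC h)⁻¹ * (ρC xC)⁻¹ =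
      ρC g * (ρC h * ρC xC * (ρC h)⁻¹ * (ρC xC)⁻¹) * (ρC g)⁻¹ *
        (ρC g * ρC xC * (ρC g)⁻¹ * (ρC xC)⁻¹) by group]
    exact mul_mem (trl_conj (ρC_pres g) hh) hg
  inv_mem' := by
    intro g hg
    show ρC g⁻¹ * ρC xC * (ρC g⁻¹)⁻¹ * (ρC xC)⁻¹ ∈ trl
    rw [map_inv, show (ρC g)⁻¹ * ρC xC * ((ρC g)⁻¹)⁻¹ * (ρC xC)⁻¹ =
      (ρC g)⁻¹ * (ρC g * ρC xC * (ρC g)⁻¹ * (ρC xC)⁻¹)⁻¹ * ((ρC g)⁻¹)⁻¹ by group]
    exact trl_conj (inv_mem (ρC_pres g)) (inv_mem hg)

theorem mem_Sgrp {g : C0} : g ∈ Sgrp ↔ ρC g * ρC xC * (ρC g)⁻¹ * (ρC xC)⁻¹ ∈ trl := Iff.rfl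

theorem ker_le_Sgrp : θC.ker ≤ Sgrp := by
  rw [ker_eq]
  refine sup_le (fun q hq => mem_Sgrp.2 ?_) (Subgroup.zpowers_le.2 (mem_Sgrp.2 ?_))
  · rw [show ρC q * ρC xC * (ρC q)⁻¹ * (ρC xC)⁻¹ = ρC q * (ρC xC * (ρC q)⁻¹ * (ρC xC)⁻¹) by group]
    exact mul_mem (Q_trl hq) (trl_conj (ρC_pres xC) (inv_mem (Q_trl hq)))
  · rw [mul_inv_cancel_right, mul_inv_cancel]
    exact one_mem _

theorem blkC_eq (c : presC) : blkC c = θC c.1 := Equiv.ext fun j => by
  rw [← blk_cell j 0]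
  exact (blockHom_spec ⟨ρC c.1, c.2⟩ (cell j 0)).symm.trans (θC_spec c.1 (cell j 0))

theorem subC_S {k : ℕ} (hk : k < 8) : (subC k : C0) ∈ Sgrp := by
  set g : C0 := (subC k : C0)
  intro j
  have hf := fun i : Fin 504 => allBelow_spec
    (List.all_eq_true.1 flip_ok k (List.mem_range.2 hk)) i i.2
  simp only [Bool.and_eq_true, Nat.blt_eq, Nat.beq_eq] at hf
  have hp : ∀ i : Fin 504, big.img 11 (big.img (subGens.getD k 0) i) = ((ρC xC (ρC g i) : Fin 504) : ℕ) :=
    fun i => by rw [xC_img, subC_tab hk]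
  have hq : ∀ i : Fin 504, big.img (subGens.getD k 0) (big.img 11 i) = ((ρC g (ρC xC i) : Fin 504) : ℕ) :=
    fun i => by rw [subC_tab hk, xC_img]
  have hv : flipTab.half (k * 126 + j) < 4 := by
    obtain ⟨i, hi⟩ := ((ρC xC).surjective.comp (ρC g).surjective) (cell j 0)
    have h := (hf i).1
    rw [hp, show ρC xC (ρC g i) = cell j 0 from hi] at h
    rw [show (cell j 0 : ℕ).div 4 = j from congrArg Fin.val (blk_cell j 0)] at h
    exact h
  refine ⟨⟨_, hv⟩, fun a => ?_⟩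
  obtain ⟨i, hi⟩ := ((ρC xC).surjective.comp (ρC g).surjective) (cell j a)
  have h := (hf i).2
  rw [hp, hq, show ρC xC (ρC g i) = cell j a from hi] at h
  rw [show (cell j a : ℕ).div 4 = j from congrArg Fin.val (blk_cell j a),
    show (cell j a : ℕ).mod 4 = a from congrArg Fin.val (loc_cell j a)] at h
  rw [Equiv.Perm.mul_apply, Equiv.Perm.mul_apply, Equiv.Perm.mul_apply, ← hi]
  simp only [Equiv.Perm.inv_def, Function.comp_apply, Equiv.symm_apply_apply]
  refine Fin.ext ?_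
  rw [h]
  show Nat.add (Nat.mul (j : ℕ) 4) _ = 4 * (j : ℕ) + _
  rw [nat_xor_eq]
  show (j : ℕ) * 4 + _ = _
  rw [mul_comm]
  rfl

theorem outer_ok : big.img 11 (big.img 4 0) / 4 = big.img 11 (big.img 4 1) / 4 ∧
    Nat.xor (big.img 11 (big.img 4 0) % 4) (big.img 4 (big.img 11 0) % 4) ≠
      Nat.xor (big.img 11 (big.img 4 1) % 4) (big.img 4 (big.img 11 1) % 4) := by decide +kernel

theorem xr_xor : ∀ a v : Fin 4, Nat.xor a (xr a v : ℕ) = v := by decide

theorem outer_not : gC 4 ∉ Sgrp := by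
  intro h
  obtain ⟨h1, h2⟩ := outer_ok
  set g := ρC (gC 4)
  set x := ρC xC
  have hp : ∀ i : Fin 504, ((x (g i) : Fin 504) : ℕ) = big.img 11 (big.img 4 i) := fun i => by
    rw [xC_img, gC_img (by norm_num)]
  have hq : ∀ i : Fin 504, ((g (x i) : Fin 504) : ℕ) = big.img 4 (big.img 11 i) := fun i => by
    rw [gC_img (by norm_num), xC_img]
  obtain ⟨v, hv⟩ := h (blk (x (g 0)))
  have key : ∀ i : Fin 504, blk (x (g i)) = blk (x (g 0)) →
      Nat.xor ((x (g i) : ℕ) % 4) ((g (x i) : ℕ) % 4) = v := by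
    intro i hi
    have e := hv (loc (x (g i)))
    rw [← hi, cell_eta] at e
    simp only [Equiv.Perm.mul_apply, Equiv.Perm.inv_def, x, g, Equiv.symm_apply_apply] at e
    rw [e, show (cell (blk (x (g i))) (xr (loc (x (g i))) v) : ℕ) % 4 = (xr (loc (x (g i))) v : ℕ) from
      congrArg Fin.val (loc_cell _ _)]
    exact xr_xor (loc (x (g i))) v
  have e0 := key 0 rfl
  have e1 := key 1 (Fin.ext (by
    show ((x (g 1) : Fin 504) : ℕ) / 4 = ((x (g 0) : Fin 504) : ℕ) / 4
    rw [hp, hp]; exact h1.symm))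
  rw [hp, hq] at e0 e1
  exact h2 (e0.trans e1.symm)

/-- the subgroup of index two of the image on the blocks -/
noncomputable def U : Subgroup (Equiv.Perm (Fin 126)) := PermData.grp subI

theorem U_le_map : U ≤ Sgrp.map θC := by
  rw [U, PermData.grp, Subgroup.closure_le]
  rintro _ ⟨k, hk, rfl⟩
  exact ⟨(subC k : C0), subC_S hk, (blkC_eq (subC k)).symm⟩

theorem U_le_range : U ≤ θC.range := U_le_map.trans (by rintro _ ⟨c, -, rfl⟩; exact ⟨c, rfl⟩)

theorem card_U_le : Nat.card U ≤ 3265920 := by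
  have hle : Sgrp.map θC ≤ θC.range := by rintro _ ⟨c, -, rfl⟩; exact ⟨c, rfl⟩
  have h1 := Nat.le_of_dvd Nat.card_pos (Subgroup.card_dvd_of_le U_le_map)
  obtain ⟨k, hk⟩ := Subgroup.card_dvd_of_le hle
  rw [orders.2.1] at hk
  have hk2 : 2 ≤ k := by
    rcases k with _ | _ | k
    · omega
    · exfalso
      have e := Subgroup.eq_of_le_of_card_ge hle (by rw [orders.2.1]; omega)
      obtain ⟨s, hs, es⟩ : θC (gC 4) ∈ Sgrp.map θC := e.symm ▸ ⟨gC 4, rfl⟩
      refine outer_not ?_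
      have : s⁻¹ * gC 4 ∈ Sgrp := ker_le_Sgrp (by
        rw [MonoidHom.mem_ker, map_mul, map_inv, es, inv_mul_cancel])
      have := mul_mem hs this
      rwa [mul_inv_cancel_left] at this
    · omega
  nlinarith

theorem pair_ok : (∀ t < 2, subPair.getD t 0 < sub.g + sub.words.length) ∧
    (∀ i < 112, objMasks.getD i 0 < 2 ^ 126) := by decide +kernel

/-- an object: a set of blocks -/
noncomputable def obj (i : Fin 112) : Set (Fin 126) := {j | (objMasks.getD i 0).testBit j = true}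

theorem obj_injective : Function.Injective obj := by
  intro i k h
  obtain ⟨hnd, hlen⟩ := obj_nodup
  have e : objMasks.getD i 0 = objMasks.getD k 0 := Nat.eq_of_testBit_eq fun j => by
    by_cases hj : j < 126
    · exact Bool.eq_iff_iff.2 (Set.ext_iff.1 h ⟨j, hj⟩)
    · rw [Nat.testBit_lt_two_pow (lt_of_lt_of_le (pair_ok.2 i i.2) (Nat.pow_le_pow_right (by norm_num) (not_lt.1 hj))),
        Nat.testBit_lt_two_pow (lt_of_lt_of_le (pair_ok.2 k k.2) (Nat.pow_le_pow_right (by norm_num) (not_lt.1 hj)))]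
  rw [List.getD_eq_getElem _ _ (by omega), List.getD_eq_getElem _ _ (by omega)] at e
  exact Fin.ext (hnd.getElem_inj_iff.1 e)

theorem U_equiv_model : Nonempty (U ≃* model) := by
  have hex : ∀ t < 2, ∃ σ : U, ∀ j : Fin 126, (((σ : Equiv.Perm (Fin 126)) j : Fin 126) : ℕ) =
      sub.img (subPair.getD t 0) j := fun t ht => by
    obtain ⟨σ, hσ, e⟩ := PermData.elem_exists subI sub_words_ok _ (pair_ok.1 t ht)
    exact ⟨⟨σ, hσ⟩, e⟩
  obtain ⟨a, ha⟩ := hex 0 (by norm_num)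
  obtain ⟨b, hb⟩ := hex 1 (by norm_num)
  have key : ∀ (t : ℕ) (_ : t < 2) (σ : U) (p : Equiv.Perm (Fin 112)),
      (∀ j : Fin 126, (((σ : Equiv.Perm (Fin 126)) j : Fin 126) : ℕ) = sub.img (subPair.getD t 0) j) →
      (∀ i : Fin 112, (p i : ℕ) = (if Nat.beq t 0 then permA else permB).getD i 0) →
      ∀ i, σ • obj i = obj (p i) := by
    intro t ht σ p hσ hp i
    ext j
    rw [Set.mem_smul_set_iff_inv_smul_mem]
    obtain ⟨k, rfl⟩ := (σ : Equiv.Perm (Fin 126)).surjective j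
    rw [show σ⁻¹ • ((σ : Equiv.Perm (Fin 126)) k) = k from (σ : Equiv.Perm (Fin 126)).symm_apply_apply k]
    have h := bit_eq (Nat.eq_of_beq_eq_true
      (allBelow_spec (allBelow_spec (allBelow_spec obj_ok t ht) i i.2) k k.2))
    rw [← hp, ← hσ] at h
    show (objMasks.getD i 0).testBit k = true ↔ (objMasks.getD (p i) 0).testBit _ = true
    rw [h]
  exact CfsgLib.Spor.HSUnitary.equiv_closure_of_action (G := U) obj obj_injective a b pA pB
    (key 0 (by norm_num) a pA ha fun i => pA_val i) (key 1 (by norm_num) b pB hb fun i => pB_val i)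
    (card_U_le.trans le_card_model)

local instance : Fact (Nat.Prime 3) := ⟨Nat.prime_three⟩

/-- a field with nine elements -/
abbrev F9 : Type := GaloisField 3 2

noncomputable local instance : Fintype F9 := Fintype.ofFinite _

theorem card_F9 : Fintype.card F9 = 9 := by
  rw [← Nat.card_eq_fintype_card, GaloisField.card 3 2 (by norm_num)]; norm_num

theorem U_psu : Nonempty (U ≃* Cfsg.PSU 4 F9 3) := by
  obtain ⟨e⟩ := U_equiv_model
  obtain ⟨f⟩ := psu_equiv_model card_F9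
  exact ⟨e.trans f.symm⟩

theorem card_U : Nat.card U = 3265920 := by
  obtain ⟨e⟩ := U_psu
  rw [Nat.card_congr e.toEquiv, card_PSU_four_three card_F9]

theorem U_simple : IsSimpleGroup U := by
  obtain ⟨e⟩ := U_psu
  haveI := CfsgLib.Classical.Unitary.isSimpleGroup_PSU (n := 4) (q := 3) (F := F9)
    (by rw [Nat.card_eq_fintype_card, card_F9]; norm_num) (by norm_num) (by norm_num)
  exact CfsgLib.ThreeTransp.isSimpleGroup_of_equiv e inferInstance

theorem U_index : U.relIndex θC.range = 2 := by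
  have h := Subgroup.index_mul_card (U.subgroupOf θC.range)
  rw [Nat.card_congr (Subgroup.subgroupOfEquivOfLe U_le_range).toEquiv, card_U, orders.2.1] at h
  exact Nat.eq_of_mul_eq_mul_right (by norm_num : (0 : ℕ) < 3265920) (h.trans (by norm_num))

theorem centralise_U {u : Equiv.Perm (Fin 126)} (h : ∀ σ ∈ U, u * σ = σ * u) : u = 1 := by
  have hs := stab_ok
  simp only [okStab, Bool.and_eq_true, List.all_eq_true, Nat.blt_eq, Nat.beq_eq] at hs
  obtain ⟨hs1, hs2⟩ := hs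
  have h0 : u 0 = 0 := by
    by_contra hne
    have h2 := allBelow_spec hs2 (u 0) (u 0).2
    rw [Bool.or_eq_true, List.any_eq_true] at h2
    rcases h2 with h2 | ⟨k, hk, h2⟩
    · exact hne (Fin.ext (Nat.eq_of_beq_eq_true h2))
    obtain ⟨hk1, hk0⟩ := hs1 k hk
    obtain ⟨σ, hσ, e⟩ := PermData.elem_exists subI sub_words_ok k hk1
    have e0 : σ 0 = 0 := Fin.ext ((e 0).trans hk0)
    have e1 : σ (u 0) = u 0 := by
      rw [← Equiv.Perm.mul_apply, ← h σ hσ, Equiv.Perm.mul_apply, e0]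
    rw [Bool.not_eq_true', ← e, e1, Nat.beq_refl] at h2
    exact Bool.noConfusion h2
  refine Equiv.ext fun j => ?_
  obtain ⟨σ, hσ, rfl⟩ := sub_transitive j
  rw [← Equiv.Perm.mul_apply, h σ hσ, Equiv.Perm.mul_apply, h0]
  rfl

theorem normal_two_range (M : Subgroup θC.range) [M.Normal] (hM : IsPGroup 2 M) : M = ⊥ := by
  let U' : Subgroup θC.range := U.subgroupOf θC.range
  haveI hn : U'.Normal := Subgroup.normal_of_index_eq_two U_index
  haveI := U_simple
  haveI : IsSimpleGroup U' := CfsgLib.ThreeTransp.isSimpleGroup_of_equiv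
    (Subgroup.subgroupOfEquivOfLe U_le_range) U_simple
  have hd : Disjoint M U' := by
    rcases Subgroup.Normal.eq_bot_or_eq_top (inferInstance : (M.subgroupOf U').Normal) with h | h
    · exact Subgroup.subgroupOf_eq_bot.1 h
    · exfalso
      have h2 : IsPGroup 2 U' := hM.to_le (Subgroup.subgroupOf_eq_top.1 h)
      haveI : Fact (Nat.Prime 2) := ⟨Nat.prime_two⟩
      obtain ⟨k, hk⟩ := IsPGroup.iff_card.1 h2
      rw [Nat.card_congr (Subgroup.subgroupOfEquivOfLe U_le_range).toEquiv, card_U] at hk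
      have : 3 ∣ 2 ^ k := hk ▸ ⟨1088640, rfl⟩
      exact absurd (Nat.Prime.dvd_of_dvd_pow Nat.prime_three this) (by norm_num)
  rw [eq_bot_iff]
  intro u hu
  rw [Subgroup.mem_bot]
  refine Subtype.ext (centralise_U fun σ hσ => ?_)
  exact congrArg Subtype.val
    (Subgroup.commute_of_normal_of_disjoint M U' inferInstance hn hd u ⟨σ, U_le_range hσ⟩ hu hσ).eq

end CfsgLib.Spor.Fi24.QuadCent
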